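/-
Five anticommuting involutions generating a group of symplectic type in four dimensions.
-/
import Cfsg.Prelude.Def_GeometricClasses
import Cfsg.Agent.Lib.Local.SymplecticFour

set_option autoImplicit false

namespace CfsgLib.Classical22.SympTypeFour

open Matrix

variable {ι : Type} [Fintype ι] [DecidableEq ι] {F : Type*} [Field F] [Fintype F]

theorem neg_one_ne [Nonempty ι] (h2 : (2 : F) ≠ 0) : (-1 : GL ι F) ≠ 1 := fun h => by
  obtain ⟨i⟩ := ‹Nonempty ι›
  have h1 : ((-1 : GL ι F) : Matrix ι ι F) i i = ((1 : GL ι F) : Matrix ι ι F) i i := by rw [h]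
  simp at h1
  exact h2 (by linear_combination -h1)

theorem neg_ne_self [Nonempty ι] (h2 : (2 : F) ≠ 0) (x : GL ι F) : -x ≠ x := fun h =>
  neg_one_ne h2 (mul_right_cancel (b := x) (by rw [neg_one_mul, one_mul]; exact h))

/-- A finite group of symplectic type as used here. -/
structure Setting (R : Subgroup (GL ι F)) : Prop where
  neg : (-1 : GL ι F) ∈ R
  sq : ∀ a ∈ R, a * a = 1 ∨ a * a = -1
  comm : ∀ a ∈ R, ∀ b ∈ R, a * b = b * a ∨ a * b = -(b * a)
  irr : Cfsg.Geo.ActsAbsolutelyIrreducibly (Cfsg.Geo.matrixSet R)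
  card : Nat.card R = 16 * Nat.card (Subgroup.center R)

variable {R : Subgroup (GL ι F)}

theorem scalar_of_commute [Nonempty ι] (hirr : Cfsg.Geo.ActsAbsolutelyIrreducibly (Cfsg.Geo.matrixSet R))
    {x : GL ι F} (hx : ∀ a ∈ R, x * a = a * x) : ∃ c : F, c ≠ 0 ∧ (x : Matrix ι ι F) = c • 1 := by
  obtain ⟨c, hc⟩ := hirr.2 (x : Matrix ι ι F) (by
    rintro _ ⟨a, ha, rfl⟩
    exact congrArg Units.val (hx a ha))
  refine ⟨c, fun h => ?_, hc⟩
  obtain ⟨i⟩ := ‹Nonempty ι›
  have h1 : (1 : Matrix ι ι F) = 0 := by rw [← Units.mul_inv x, hc, h, zero_smul, zero_mul]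
  simpa using congrFun (congrFun h1 i) i

theorem scalar_comm {x : GL ι F} {c : F} (hx : (x : Matrix ι ι F) = c • 1) (y : GL ι F) : x * y = y * x :=
  Units.ext (by rw [Units.val_mul, Units.val_mul, hx, smul_mul_assoc, one_mul, mul_smul_comm, mul_one])

/-- The hypotheses of the statements give the setting. -/
theorem setting_of_type [Nonempty ι] (h2 : (2 : F) ≠ 0) (hR : Cfsg.Geo.IsSymplecticTypeGroup 2 R)
    (hirr : Cfsg.Geo.ActsAbsolutelyIrreducibly (Cfsg.Geo.matrixSet R))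
    (hcard : Nat.card R = 16 * Nat.card (Subgroup.center R)) (hZ : 2 ∣ Nat.card (Subgroup.center R)) : Setting R := by
  haveI : Fact (Nat.Prime 2) := ⟨Nat.prime_two⟩
  obtain ⟨z, hz⟩ := exists_prime_orderOf_dvd_card' 2 hZ
  have hz2 : ((z : R) : GL ι F) * ((z : R) : GL ι F) = 1 := by
    have h := pow_orderOf_eq_one z
    rw [hz, sq] at h
    exact congrArg (fun u : Subgroup.center R => ((u : R) : GL ι F)) h
  obtain ⟨c, -, hc⟩ := scalar_of_commute hirr fun a ha =>
    (congrArg Subtype.val (Subgroup.mem_center_iff.1 z.2 ⟨a, ha⟩)).symm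
  have hz1 : ((z : R) : GL ι F) ≠ 1 := fun h => by
    have : z = 1 := Subtype.ext (Subtype.ext h)
    rw [this, orderOf_one] at hz
    norm_num at hz
  have hzm : ((z : R) : GL ι F) = -1 := by
    have h1 := congrArg Units.val hz2
    rw [Units.val_mul, hc, smul_mul_smul_comm, one_mul, Units.val_one] at h1
    obtain ⟨i⟩ := ‹Nonempty ι›
    have h3 : c * c = 1 := by simpa using congrFun (congrFun h1 i) i
    rcases mul_self_eq_one_iff.1 h3 with rfl | rfl
    · exact absurd (Units.ext (by rw [hc, one_smul, Units.val_one])) hz1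
    · exact Units.ext (by rw [hc, neg_one_smul, Units.val_neg, Units.val_one])
  have h4 : ∀ q : R, q ^ 4 = 1 := fun q => by
    have h := Monoid.pow_exponent_eq_one q
    rwa [hR.exponent_eq, show 2 * Nat.gcd 2 2 = 4 from rfl] at h
  obtain ⟨hcm, hsq, -⟩ := CfsgLib.Local.symplectic_four (Q := R) ⟨hR.pGroup, hR.cyclic_of_characteristic⟩ h4 z.2
    (Subtype.ext (by rw [Subgroup.coe_pow, sq]; exact hz2)) fun h => hz1 (congrArg Subtype.val h)
  refine ⟨hzm ▸ (z : R).2, fun a ha => ?_, fun a ha b hb => ?_, hirr, hcard⟩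
  · rcases hsq ⟨a, ha⟩ with h | h <;> have h' := congrArg Subtype.val h <;>
      simp only [Subgroup.coe_pow, sq, OneMemClass.coe_one, hzm] at h'
    · exact Or.inl h'
    · exact Or.inr h'
  · rcases hcm ⟨a, ha⟩ ⟨b, hb⟩ with h | h <;> have h' := congrArg Subtype.val h <;>
      simp only [Subgroup.coe_mul, Subgroup.coe_inv, OneMemClass.coe_one, hzm, mul_inv_eq_iff_eq_mul, one_mul] at h'
    · exact Or.inl h'
    · exact Or.inr (by rw [h', neg_mul, neg_mul, one_mul])

/-- An anticommuting pair halves the commutant. -/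
theorem card_commutant [Nonempty ι] (h2 : (2 : F) ≠ 0) (hS : Setting R) {H : Subgroup (GL ι F)} (hH : H ≤ R)
    {a : GL ι F} (ha : a ∈ R) {y : GL ι F} (hy : y ∈ H) (hay : a * y = -(y * a)) :
    Nat.card H = 2 * Nat.card (H ⊓ Subgroup.centralizer {a} : Subgroup (GL ι F)) := by
  have hmem : ∀ x, x ∈ H ⊓ Subgroup.centralizer {a} ↔ x ∈ H ∧ a * x = x * a := fun x => by
    rw [Subgroup.mem_inf, Subgroup.mem_centralizer_singleton_iff]
    exact and_congr_right fun _ => eq_comm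
  have hflip : ∀ x ∈ H, a * x = -(x * a) → a * (y⁻¹ * x) = y⁻¹ * x * a := fun x _ hx => by
    have h1 : a * y⁻¹ = -(y⁻¹ * a) := by
      have h := congrArg (fun t => y⁻¹ * t * y⁻¹) hay
      simp only [mul_neg, neg_mul] at h
      rw [show y⁻¹ * (a * y) * y⁻¹ = y⁻¹ * a by group, show y⁻¹ * (y * a) * y⁻¹ = a * y⁻¹ by group] at h
      rw [h, neg_neg]
    rw [← mul_assoc, h1, neg_mul, mul_assoc, hx, mul_neg, neg_neg, mul_assoc]
  classical
  obtain ⟨K, hK⟩ : ∃ K, K = H ⊓ Subgroup.centralizer {a} := ⟨_, rfl⟩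
  rw [← hK] at hmem ⊢
  have hbij : Function.Bijective (fun q : K × Bool =>
      (⟨cond q.2 (y * q.1.1) q.1.1, by
        obtain ⟨⟨k, hk⟩, b⟩ := q
        cases b
        · exact ((hmem k).1 hk).1
        · exact H.mul_mem hy ((hmem k).1 hk).1⟩ : H)) := by
    constructor
    · rintro ⟨⟨k, hk⟩, b⟩ ⟨⟨k', hk'⟩, b'⟩ h
      have h' := congrArg Subtype.val h
      have hyc : ∀ k ∈ K, a * (y * k) ≠ y * k * a := fun k hk e => by
        rw [← mul_assoc, hay, neg_mul, mul_assoc, ((hmem k).1 hk).2, ← mul_assoc] at e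
        exact neg_ne_self h2 _ e
      cases b <;> cases b' <;> simp only [cond_true, cond_false] at h'
      · subst h'; rfl
      · exact absurd (h' ▸ ((hmem k).1 hk).2) (hyc k' hk')
      · exact absurd (h'.symm ▸ ((hmem k').1 hk').2) (hyc k hk)
      · have := mul_left_cancel h'
        subst this; rfl
    · intro x
      rcases hS.comm a ha x.1 (hH x.2) with h | h
      · exact ⟨(⟨x.1, (hmem _).2 ⟨x.2, h⟩⟩, false), rfl⟩
      · exact ⟨(⟨y⁻¹ * x.1, (hmem _).2 ⟨H.mul_mem (H.inv_mem hy) x.2, hflip _ x.2 h⟩⟩, true),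
          Subtype.ext (mul_inv_cancel_left y x.1)⟩
  rw [← Nat.card_congr (Equiv.ofBijective _ hbij), Nat.card_prod, Nat.card_eq_fintype_card (α := Bool),
    Fintype.card_bool, mul_comm]

/-- Two commuting anticommuting pairs. -/
structure Pairs (R : Subgroup (GL ι F)) (a b c d : GL ι F) : Prop where
  ha : a ∈ R
  hb : b ∈ R
  hc : c ∈ R
  hd : d ∈ R
  ab : a * b = -(b * a)
  cd : c * d = -(d * c)
  ac : a * c = c * a
  ad : a * d = d * a
  bc : b * c = c * b
  bd : b * d = d * b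

theorem center_val (x : GL ι F) (hx : x ∈ R) :
    (⟨x, hx⟩ : R) ∈ Subgroup.center R ↔ ∀ y ∈ R, x * y = y * x := by
  rw [Subgroup.mem_center_iff]
  exact ⟨fun h y hy => (congrArg Subtype.val (h ⟨y, hy⟩)).symm, fun h y => Subtype.ext (h y.1 y.2).symm⟩

theorem card_center_map : Nat.card ((Subgroup.center R).map R.subtype) = Nat.card (Subgroup.center R) :=
  (Nat.card_congr ((Subgroup.center R).equivMapOfInjective R.subtype R.subtype_injective).toEquiv).symm

theorem exists_pairs [Nonempty ι] (h2 : (2 : F) ≠ 0) (hS : Setting R) : ∃ a b c d, Pairs R a b c d := by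
  classical
  obtain ⟨Z, hZ⟩ : ∃ Z, Z = (Subgroup.center R).map R.subtype := ⟨_, rfl⟩
  have hmemZ : ∀ x, x ∈ Z ↔ x ∈ R ∧ ∀ y ∈ R, x * y = y * x := fun x => by
    rw [hZ]
    constructor
    · rintro ⟨y, hy, rfl⟩
      exact ⟨y.2, (center_val y.1 y.2).1 hy⟩
    · rintro ⟨hx, h⟩
      exact ⟨⟨x, hx⟩, (center_val x hx).2 h, rfl⟩
  have hZc : Nat.card Z = Nat.card (Subgroup.center R) := hZ ▸ card_center_map
  have hZpos : 0 < Nat.card Z := Nat.card_pos
  obtain ⟨a, ha, b, hb, hab⟩ : ∃ a ∈ R, ∃ b ∈ R, a * b = -(b * a) := by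
    by_contra hcon
    push Not at hcon
    have hle : R ≤ Z := fun x hx => (hmemZ x).2 ⟨hx, fun y hy => (hS.comm x hx y hy).resolve_right (hcon x hx y hy)⟩
    have := Subgroup.card_le_of_le hle
    rw [hS.card, hZc] at this
    omega
  have h1 := card_commutant h2 hS le_rfl ha hb hab
  have hba : b * a = -(a * b) := by rw [hab, neg_neg]
  have ha' : a ∈ R ⊓ Subgroup.centralizer {a} := ⟨ha, Subgroup.mem_centralizer_singleton_iff.2 rfl⟩
  have h1' := card_commutant h2 hS inf_le_left hb ha' hba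
  obtain ⟨K, hK⟩ : ∃ K, K = R ⊓ Subgroup.centralizer {a} ⊓ Subgroup.centralizer {b} := ⟨_, rfl⟩
  rw [← hK] at h1'
  have hmemK : ∀ x, x ∈ K ↔ x ∈ R ∧ x * a = a * x ∧ x * b = b * x := fun x => by
    simp [hK, Subgroup.mem_centralizer_singleton_iff, and_assoc]
  obtain ⟨c, hc, hcZ⟩ : ∃ c ∈ K, c ∉ Z := by
    by_contra hcon
    push Not at hcon
    have := Subgroup.card_le_of_le (show K ≤ Z from hcon)
    rw [hS.card] at h1
    omega
  obtain ⟨hcR, hca, hcb⟩ := (hmemK c).1 hc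
  obtain ⟨y, hy, hcy⟩ : ∃ y ∈ R, c * y = -(y * c) := by
    by_contra hcon
    push Not at hcon
    exact hcZ ((hmemZ c).2 ⟨hcR, fun y hy => (hS.comm c hcR y hy).resolve_right (hcon y hy)⟩)
  -- correct `y` so that it commutes with `a` and `b`
  obtain ⟨y', hy', hcy', hay'⟩ : ∃ y' ∈ R, c * y' = -(y' * c) ∧ a * y' = y' * a := by
    rcases hS.comm a ha y hy with h | h
    · exact ⟨y, hy, hcy, h⟩
    · refine ⟨b * y, mul_mem hb hy, ?_, ?_⟩
      · rw [← mul_assoc, hcb, mul_assoc, hcy, mul_neg, mul_assoc]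
      · rw [← mul_assoc, hab, neg_mul, mul_assoc, h, mul_neg, neg_neg, mul_assoc]
  obtain ⟨d, hd, hcd, had, hbd⟩ : ∃ d ∈ R, c * d = -(d * c) ∧ a * d = d * a ∧ b * d = d * b := by
    rcases hS.comm b hb y' hy' with h | h
    · exact ⟨y', hy', hcy', hay', h⟩
    · refine ⟨a * y', mul_mem ha hy', ?_, ?_, ?_⟩
      · rw [← mul_assoc, hca, mul_assoc, hcy', mul_neg, mul_assoc]
      · rw [mul_assoc a y', ← hay']
      · rw [← mul_assoc, hba, neg_mul, mul_assoc, h, mul_neg, neg_neg, mul_assoc]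
  exact ⟨a, b, c, d, ha, hb, hcR, hd, hab, hcd, hca.symm, had, hcb.symm, hbd⟩

/-- The elements commuting with two such pairs are central. -/
theorem Pairs.central [Nonempty ι] (h2 : (2 : F) ≠ 0) (hS : Setting R) {a b c d : GL ι F} (hP : Pairs R a b c d) {x : GL ι F}
    (hx : x ∈ R) (h₁ : x * a = a * x) (h₁' : x * b = b * x) (h₃ : x * c = c * x) (h₃' : x * d = d * x) :
    ∀ y ∈ R, x * y = y * x := by
  obtain ⟨ha, hb, hc, hd, hab, hcd, hac, had, hbc, hbd⟩ := hP
  have mc : ∀ u v : GL ι F, u * v = v * u → u ∈ Subgroup.centralizer {v} := fun u v h =>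
    Subgroup.mem_centralizer_singleton_iff.2 h
  have e1 := card_commutant h2 hS le_rfl ha hb hab
  have e2 := card_commutant h2 hS inf_le_left hb (show a ∈ R ⊓ Subgroup.centralizer {a} from ⟨ha, mc a a rfl⟩)
    (by rw [hab, neg_neg])
  have e3 := card_commutant h2 hS (inf_le_left.trans inf_le_left) hc
    (show d ∈ R ⊓ Subgroup.centralizer {a} ⊓ Subgroup.centralizer {b} from ⟨⟨hd, mc d a had.symm⟩, mc d b hbd.symm⟩)
    hcd
  have e4 := card_commutant h2 hS ((inf_le_left.trans inf_le_left).trans inf_le_left) hd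
    (show c ∈ R ⊓ Subgroup.centralizer {a} ⊓ Subgroup.centralizer {b} ⊓ Subgroup.centralizer {c} from
      ⟨⟨⟨hc, mc c a hac.symm⟩, mc c b hbc.symm⟩, mc c c rfl⟩) (by rw [hcd, neg_neg])
  obtain ⟨K, hK⟩ : ∃ K, K = R ⊓ Subgroup.centralizer {a} ⊓ Subgroup.centralizer {b} ⊓ Subgroup.centralizer {c} ⊓
      Subgroup.centralizer {d} := ⟨_, rfl⟩
  rw [← hK] at e4
  have hle : (Subgroup.center R).map R.subtype ≤ K := by
    rintro _ ⟨z, hz, rfl⟩
    have h := (center_val z.1 z.2).1 hz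
    rw [hK]
    exact ⟨⟨⟨⟨z.2, mc _ _ (h a ha)⟩, mc _ _ (h b hb)⟩, mc _ _ (h c hc)⟩, mc _ _ (h d hd)⟩
  have hc16 := hS.card
  have heq := Subgroup.eq_of_le_of_card_ge hle (by rw [card_center_map]; omega)
  have hxK : x ∈ K := hK ▸ ⟨⟨⟨⟨hx, mc _ _ h₁⟩, mc _ _ h₁'⟩, mc _ _ h₃⟩, mc _ _ h₃'⟩
  rw [← heq] at hxK
  obtain ⟨z, hz, rfl⟩ := hxK
  exact (center_val z.1 z.2).1 hz

/-- Five pairwise anticommuting involutions of `R`. -/
structure Frame (R : Subgroup (GL ι F)) (e : Fin 5 → GL ι F) : Prop where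
  mem : ∀ i, e i ∈ R
  sq : ∀ i, e i * e i = 1
  anti : ∀ i j, i ≠ j → e i * e j = -(e j * e i)
  gen : ∀ r ∈ R, ∀ x : GL ι F, (∀ i, x * e i = e i * x) → x * r = r * x

omit [Fintype F] in
theorem sq_mul_anti {u v : GL ι F} (h : u * v = -(v * u)) : u * v * (u * v) = -(u * u * (v * v)) := by
  rw [mul_assoc u v, ← mul_assoc v u v, show v * u = -(u * v) by rw [h, neg_neg], neg_mul, mul_neg, mul_assoc,
    ← mul_assoc u u]

omit [Fintype F] in
theorem sq_mul_comm {u v : GL ι F} (h : u * v = v * u) : u * v * (u * v) = u * u * (v * v) := by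
  rw [mul_assoc u v, ← mul_assoc v u v, ← h, mul_assoc u v v, ← mul_assoc u u]

/-- Two pairs, split and quaternion, give a frame. -/
theorem frame_of_pairs [Nonempty ι] (h2 : (2 : F) ≠ 0) (hS : Setting R) {a b c d : GL ι F} (hP : Pairs R a b c d)
    (ha2 : a * a = 1) (hb2 : b * b = 1) (hc2 : c * c = -1) (hd2 : d * d = -1) :
    Frame R ![a, b, a * b * c, a * b * d, a * b * (c * d)] := by
  obtain ⟨ha, hb, hc, hd, hab, hcd, hac, had, hbc, hbd⟩ := id hP
  obtain ⟨m, hm⟩ : ∃ m, m = a * b := ⟨_, rfl⟩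
  have hba : b * a = -(a * b) := by rw [hab, neg_neg]
  have hdc : d * c = -(c * d) := by rw [hcd, neg_neg]
  have hm2 : m * m = -1 := by rw [hm, sq_mul_anti hab, ha2, hb2, mul_one]
  have hmc : m * c = c * m := by rw [hm, mul_assoc, hbc, ← mul_assoc, hac, mul_assoc]
  have hmd : m * d = d * m := by rw [hm, mul_assoc, hbd, ← mul_assoc, had, mul_assoc]
  have hmcd : m * (c * d) = c * d * m := by rw [← mul_assoc, hmc, mul_assoc, hmd, ← mul_assoc]
  have ham : a * m = -(m * a) := by rw [hm, mul_assoc a b a, hba, mul_neg, neg_neg]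
  have hbm : b * m = -(m * b) := by rw [hm, ← mul_assoc, hba, neg_mul]
  have key : ∀ x, m * x = x * m → a * x = x * a → a * (m * x) = -(m * x * a) := fun x h1 h1' => by
    rw [← mul_assoc, ham, neg_mul, mul_assoc, h1', ← mul_assoc]
  have key' : ∀ x, m * x = x * m → b * x = x * b → b * (m * x) = -(m * x * b) := fun x h1 h1' => by
    rw [← mul_assoc, hbm, neg_mul, mul_assoc, h1', ← mul_assoc]
  have hacd : a * (c * d) = c * d * a := by rw [← mul_assoc, hac, mul_assoc, had, ← mul_assoc]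
  have hbcd : b * (c * d) = c * d * b := by rw [← mul_assoc, hbc, mul_assoc, hbd, ← mul_assoc]
  have pair : ∀ x y, m * x = x * m → m * y = y * m → x * y = -(y * x) → m * x * (m * y) = -(m * y * (m * x)) :=
    fun x y h1 h1' h3 => by
    rw [mul_assoc m x, ← mul_assoc x m, ← h1, mul_assoc m x y, h3, mul_neg, mul_neg, mul_assoc m y (m * x),
      ← mul_assoc y m x, ← h1', mul_assoc m y x]
  have hc_cd : c * (c * d) = -(c * d * c) := by rw [mul_assoc c d c, hdc, mul_neg, neg_neg]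
  have hd_cd : d * (c * d) = -(c * d * d) := by rw [← mul_assoc, hdc, neg_mul]
  rw [← hm]
  refine ⟨fun i => ?_, fun i => ?_, fun i j hij => ?_, fun r hr x hx => ?_⟩
  · fin_cases i <;> simp [hm, ha, hb, hc, hd, mul_mem]
  · fin_cases i
    · exact ha2
    · exact hb2
    · show m * c * (m * c) = 1
      rw [sq_mul_comm hmc, hm2, hc2, neg_one_mul, neg_neg]
    · show m * d * (m * d) = 1
      rw [sq_mul_comm hmd, hm2, hd2, neg_one_mul, neg_neg]
    · show m * (c * d) * (m * (c * d)) = 1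
      rw [sq_mul_comm hmcd, sq_mul_anti hcd, hm2, hc2, hd2]
      simp
  · have sym : ∀ u v : GL ι F, u * v = -(v * u) → v * u = -(u * v) := fun u v h => by rw [h, neg_neg]
    fin_cases i <;> fin_cases j <;>
      first
        | exact absurd rfl hij
        | exact hab
        | exact sym _ _ hab
        | exact key _ hmc hac
        | exact sym _ _ (key _ hmc hac)
        | exact key _ hmd had
        | exact sym _ _ (key _ hmd had)
        | exact key _ hmcd hacd
        | exact sym _ _ (key _ hmcd hacd)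
        | exact key' _ hmc hbc
        | exact sym _ _ (key' _ hmc hbc)
        | exact key' _ hmd hbd
        | exact sym _ _ (key' _ hmd hbd)
        | exact key' _ hmcd hbcd
        | exact sym _ _ (key' _ hmcd hbcd)
        | exact pair _ _ hmc hmd hcd
        | exact sym _ _ (pair _ _ hmc hmd hcd)
        | exact pair _ _ hmc hmcd hc_cd
        | exact sym _ _ (pair _ _ hmc hmcd hc_cd)
        | exact pair _ _ hmd hmcd hd_cd
        | exact sym _ _ (pair _ _ hmd hmcd hd_cd)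
  · have xa : Commute x a := hx 0
    have xb : Commute x b := hx 1
    have xc : Commute x (m * c) := hx 2
    have xd : Commute x (m * d) := hx 3
    have xm : Commute x m := hm ▸ xa.mul_right xb
    have xc' : Commute x c := by
      have := xm.inv_right.mul_right xc
      rwa [inv_mul_cancel_left] at this
    have xd' : Commute x d := by
      have := xm.inv_right.mul_right xd
      rwa [inv_mul_cancel_left] at this
    -- multiply `r` into the commutant of the two pairs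
    obtain ⟨r1, hr1, hra, hr1x⟩ : ∃ r1 ∈ R, r1 * a = a * r1 ∧ (Commute x r1 → Commute x r) := by
      rcases hS.comm r hr a ha with h | h
      · exact ⟨r, hr, h, id⟩
      · refine ⟨b * r, mul_mem hb hr, ?_, fun h' => ?_⟩
        · rw [mul_assoc, h, mul_neg, ← mul_assoc, hba, neg_mul, neg_neg, mul_assoc]
        · have := xb.inv_right.mul_right h'
          rwa [inv_mul_cancel_left] at this
    obtain ⟨r2, hr2, hra2, hrb2, hr2x⟩ : ∃ r2 ∈ R, r2 * a = a * r2 ∧ r2 * b = b * r2 ∧ (Commute x r2 → Commute x r) := by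
      rcases hS.comm r1 hr1 b hb with h | h
      · exact ⟨r1, hr1, hra, h, hr1x⟩
      · refine ⟨a * r1, mul_mem ha hr1, ?_, ?_, fun h' => hr1x ?_⟩
        · rw [mul_assoc, hra, ← mul_assoc]
        · rw [mul_assoc, h, mul_neg, ← mul_assoc, hab, neg_mul, neg_neg, mul_assoc]
        · have := xa.inv_right.mul_right h'
          rwa [inv_mul_cancel_left] at this
    obtain ⟨r3, hr3, hra3, hrb3, hrc3, hr3x⟩ :
        ∃ r3 ∈ R, r3 * a = a * r3 ∧ r3 * b = b * r3 ∧ r3 * c = c * r3 ∧ (Commute x r3 → Commute x r) := by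
      rcases hS.comm r2 hr2 c hc with h | h
      · exact ⟨r2, hr2, hra2, hrb2, h, hr2x⟩
      · refine ⟨d * r2, mul_mem hd hr2, ?_, ?_, ?_, fun h' => hr2x ?_⟩
        · rw [mul_assoc, hra2, ← mul_assoc, ← had, mul_assoc]
        · rw [mul_assoc, hrb2, ← mul_assoc, ← hbd, mul_assoc]
        · rw [mul_assoc, h, mul_neg, ← mul_assoc, hdc, neg_mul, neg_neg, mul_assoc]
        · have := xd'.inv_right.mul_right h'
          rwa [inv_mul_cancel_left] at this
    rcases hS.comm r3 hr3 d hd with h | h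
    · refine hr3x ?_
      obtain ⟨t, -, ht⟩ := scalar_of_commute hS.irr (hP.central h2 hS hr3 hra3 hrb3 hrc3 h)
      exact (scalar_comm ht x).symm
    · refine hr3x ?_
      have hcr : Commute x (c * r3) := by
        obtain ⟨t, -, ht⟩ := scalar_of_commute hS.irr (hP.central h2 hS (mul_mem hc hr3)
          (by rw [mul_assoc, hra3, ← mul_assoc, ← hac, mul_assoc])
          (by rw [mul_assoc, hrb3, ← mul_assoc, ← hbc, mul_assoc])
          (by rw [mul_assoc, hrc3, ← mul_assoc])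
          (by rw [mul_assoc, h, mul_neg, ← mul_assoc, hcd, neg_mul, neg_neg, mul_assoc]))
        exact (scalar_comm ht x).symm
      have := xc'.inv_right.mul_right hcr
      rwa [inv_mul_cancel_left] at this

/-- Splitting a pair. -/
theorem normalise_pair (hS : Setting R) {a b : GL ι F} (ha : a ∈ R) (hb : b ∈ R) (hab : a * b = -(b * a)) :
    ∃ u v, u ∈ R ∧ v ∈ R ∧ u * v = -(v * u) ∧ ((u * u = 1 ∧ v * v = 1) ∨ (u * u = -1 ∧ v * v = -1)) ∧
      ∀ x, Commute x a → Commute x b → Commute x u ∧ Commute x v := by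
  have hba : b * a = -(a * b) := by rw [hab, neg_neg]
  rcases hS.sq a ha with h | h <;> rcases hS.sq b hb with h' | h'
  · exact ⟨a, b, ha, hb, hab, Or.inl ⟨h, h'⟩, fun x p q => ⟨p, q⟩⟩
  · exact ⟨a, a * b, ha, mul_mem ha hb, by rw [mul_assoc a b a, hba, mul_neg, neg_neg],
      Or.inl ⟨h, by rw [sq_mul_anti hab, h, h', one_mul, neg_neg]⟩, fun x p q => ⟨p, p.mul_right q⟩⟩
  · exact ⟨b, b * a, hb, mul_mem hb ha, by rw [mul_assoc b a b, hab, mul_neg, neg_neg],
      Or.inl ⟨h', by rw [sq_mul_anti hba, h, h', one_mul, neg_neg]⟩, fun x p q => ⟨q, q.mul_right p⟩⟩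
  · exact ⟨a, b, ha, hb, hab, Or.inr ⟨h, h'⟩, fun x p q => ⟨p, q⟩⟩

/-- With a central square root of `-1` every such group has a frame. -/
theorem exists_frame_of_i [Nonempty ι] (h2 : (2 : F) ≠ 0) (hS : Setting R) {z : GL ι F} (hz : z ∈ R)
    (hzc : ∀ y, z * y = y * z) (hz2 : z * z = -1) : ∃ a b c d, Pairs R a b c d ∧ a * a = 1 ∧ b * b = 1 ∧ c * c = -1 ∧ d * d = -1 := by
  classical
  obtain ⟨a, b, c, d, ha, hb, hc, hd, hab, hcd, hac, had, hbc, hbd⟩ := exists_pairs h2 hS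
  obtain ⟨s, hs⟩ : ∃ s : GL ι F → GL ι F, ∀ x, s x = if x * x = 1 then x else z * x := ⟨_, fun _ => rfl⟩
  obtain ⟨t, ht⟩ : ∃ t : GL ι F → GL ι F, ∀ x, t x = if x * x = -1 then x else z * x := ⟨_, fun _ => rfl⟩
  have hzsq : ∀ x, z * x * (z * x) = -(x * x) := fun x => by
    rw [mul_assoc, ← mul_assoc x z x, ← hzc x, mul_assoc z x x, ← mul_assoc, hz2, neg_one_mul]
  have hsm : ∀ x ∈ R, s x ∈ R ∧ s x * s x = 1 ∧ ∀ y, (x * y = y * x → s x * y = y * s x) ∧
      (x * y = -(y * x) → s x * y = -(y * s x)) := fun x hx => by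
    rw [hs]
    split_ifs with h
    · exact ⟨hx, h, fun y => ⟨id, id⟩⟩
    · refine ⟨mul_mem hz hx, by rw [hzsq, (hS.sq x hx).resolve_left h, neg_neg], fun y => ⟨fun e => ?_, fun e => ?_⟩⟩
      · rw [mul_assoc, e, ← mul_assoc, hzc y, mul_assoc]
      · rw [mul_assoc, e, mul_neg, ← mul_assoc, hzc y, mul_assoc]
  have htm : ∀ x ∈ R, t x ∈ R ∧ t x * t x = -1 ∧ ∀ y, (x * y = y * x → t x * y = y * t x) ∧
      (x * y = -(y * x) → t x * y = -(y * t x)) := fun x hx => by
    rw [ht]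
    split_ifs with h
    · exact ⟨hx, h, fun y => ⟨id, id⟩⟩
    · refine ⟨mul_mem hz hx, by rw [hzsq, (hS.sq x hx).resolve_right h], fun y => ⟨fun e => ?_, fun e => ?_⟩⟩
      · rw [mul_assoc, e, ← mul_assoc, hzc y, mul_assoc]
      · rw [mul_assoc, e, mul_neg, ← mul_assoc, hzc y, mul_assoc]
  obtain ⟨a1, a2, a3⟩ := hsm a ha
  obtain ⟨b1, b2, b3⟩ := hsm b hb
  obtain ⟨c1, c2, c3⟩ := htm c hc
  obtain ⟨d1, d2, d3⟩ := htm d hd
  have hba : b * a = -(a * b) := by rw [hab, neg_neg]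
  have hdc : d * c = -(c * d) := by rw [hcd, neg_neg]
  exact ⟨s a, s b, t c, t d, ⟨a1, b1, c1, d1,
    (a3 _).2 (by rw [(b3 a).2 hba, neg_neg]), (c3 _).2 (by rw [(d3 c).2 hdc, neg_neg]),
    (a3 _).1 ((c3 a).1 hac.symm).symm, (a3 _).1 ((d3 a).1 had.symm).symm,
    (b3 _).1 ((c3 b).1 hbc.symm).symm, (b3 _).1 ((d3 b).1 hbd.symm).symm⟩, a2, b2, c2, d2⟩

/-- In the minus type the two pairs differ. -/
theorem exists_frame_of_minus [Nonempty ι] (h2 : (2 : F) ≠ 0) (hS : Setting R) (hm : Cfsg.Geo.IsOfMinusType 2 R) :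
    ∃ a b c d, Pairs R a b c d ∧ a * a = 1 ∧ b * b = 1 ∧ c * c = -1 ∧ d * d = -1 := by
  obtain ⟨a, b, c, d, ha, hb, hc, hd, hab, hcd, hac, had, hbc, hbd⟩ := exists_pairs h2 hS
  obtain ⟨u, v, hu, hv, huv, huvs, huvc⟩ := normalise_pair hS ha hb hab
  obtain ⟨u', v', hu', hv', huv', huvs', huvc'⟩ := normalise_pair hS hc hd hcd
  obtain ⟨cu, cu'⟩ := huvc' u (huvc c (hac.symm) (hbc.symm)).1.symm (huvc d (had.symm) (hbd.symm)).1.symm
  obtain ⟨cv, cv'⟩ := huvc' v (huvc c (hac.symm) (hbc.symm)).2.symm (huvc d (had.symm) (hbd.symm)).2.symm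
  -- no elementary abelian group of order eight
  have hnone : ∀ x y x₁ y₁ : GL ι F, x ∈ R → y ∈ R → x₁ ∈ R → y₁ ∈ R → x * x = 1 → y * y = 1 → x * y = y * x →
      x₁ * x = -(x * x₁) → x₁ * y = y * x₁ → y₁ * y = -(y * y₁) → False := by
    intro x y x₁ y₁ hx hy hx₁ hy₁ hxx hyy hxy e1 e2 e3
    obtain ⟨A, hA⟩ : ∃ A : Subgroup R, A = Subgroup.closure {⟨-1, hS.neg⟩, ⟨x, hx⟩, ⟨y, hy⟩} := ⟨_, rfl⟩
    have hgc : ∀ p ∈ ({⟨-1, hS.neg⟩, ⟨x, hx⟩, ⟨y, hy⟩} : Set R),
        ∀ q ∈ ({⟨-1, hS.neg⟩, ⟨x, hx⟩, ⟨y, hy⟩} : Set R), p * q = q * p := by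
      intro p hp q hq
      apply Subtype.ext
      rcases hp with rfl | rfl | rfl <;> rcases hq with rfl | rfl | rfl <;>
        simp [neg_mul, mul_neg, hxy]
    haveI hAc : IsMulCommutative A := hA ▸ Subgroup.isMulCommutative_closure hgc
    have hA2 : ∀ p ∈ A, p * p = 1 := by
      intro p hp
      have hcomm : ∀ p ∈ A, ∀ q ∈ A, p * q = q * p := fun p hp q hq =>
        congrArg Subtype.val (mul_comm' (⟨p, hp⟩ : A) ⟨q, hq⟩)
      rw [hA] at hp
      induction hp using Subgroup.closure_induction with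
      | mem p hp => rcases hp with rfl | rfl | rfl <;> apply Subtype.ext <;> simp [hxx, hyy]
      | one => simp
      | mul p q hp hq ihp ihq =>
        rw [mul_assoc, ← mul_assoc q p q, ← hcomm p (hA ▸ hp) q (hA ▸ hq), mul_assoc p q q, ihq, mul_one, ihp]
      | inv p _ ihp => rw [← _root_.mul_inv_rev, ihp, inv_one]
    have hlt := hm A hAc hA2
    obtain ⟨H, hH⟩ : ∃ H : Subgroup (GL ι F), H = A.map R.subtype := ⟨_, rfl⟩
    have hHR : H ≤ R := by rw [hH]; rintro _ ⟨p, -, rfl⟩; exact p.2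
    have hin : ∀ {t} (ht : t ∈ R), (⟨t, ht⟩ : R) ∈ ({⟨-1, hS.neg⟩, ⟨x, hx⟩, ⟨y, hy⟩} : Set R) → t ∈ H :=
      fun {t} ht h => hH ▸ ⟨⟨t, ht⟩, hA ▸ Subgroup.subset_closure h, rfl⟩
    have mc : ∀ p q : GL ι F, p * q = q * p → p ∈ Subgroup.centralizer {q} := fun p q h =>
      Subgroup.mem_centralizer_singleton_iff.2 h
    have k1 := card_commutant h2 hS hHR hx₁ (hin hx (by simp)) e1
    have k2 := card_commutant h2 hS (inf_le_left.trans hHR) hy₁
      (show y ∈ H ⊓ Subgroup.centralizer {x₁} from ⟨hin hy (by simp), mc y x₁ e2.symm⟩) e3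
    have hneg : (-1 : GL ι F) ∈ H ⊓ Subgroup.centralizer {x₁} ⊓ Subgroup.centralizer {y₁} :=
      ⟨⟨hin hS.neg (by simp), mc _ _ (by simp)⟩, mc _ _ (by simp)⟩
    obtain ⟨K, hK⟩ : ∃ K, K = H ⊓ Subgroup.centralizer {x₁} ⊓ Subgroup.centralizer {y₁} := ⟨_, rfl⟩
    rw [← hK] at k2 hneg
    have : 1 < Nat.card K := (Subgroup.one_lt_card_iff_ne_bot K).2 fun h => by
      rw [h, Subgroup.mem_bot] at hneg
      exact neg_one_ne h2 hneg
    have hcA : Nat.card H = Nat.card A :=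
      hH ▸ (Nat.card_congr (A.equivMapOfInjective R.subtype R.subtype_injective).toEquiv).symm
    omega
  have sym : ∀ p q : GL ι F, p * q = -(q * p) → q * p = -(p * q) := fun p q h => by rw [h, neg_neg]
  rcases huvs with ⟨s1, s2⟩ | ⟨s1, s2⟩ <;> rcases huvs' with ⟨s3, s4⟩ | ⟨s3, s4⟩
  · exact absurd (hnone u u' v v' hu hu' hv hv' s1 s3 cu (sym _ _ huv) cv (sym _ _ huv')) id
  · exact ⟨u, v, u', v', ⟨hu, hv, hu', hv', huv, huv', cu, cu', cv, cv'⟩, s1, s2, s3, s4⟩
  · exact ⟨u', v', u, v, ⟨hu', hv', hu, hv, huv', huv, cu.symm, cv.symm, cu'.symm, cv'.symm⟩, s3, s4, s1, s2⟩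
  · refine absurd (hnone (u * u') (v * v') v u' (mul_mem hu hu') (mul_mem hv hv') hv hu' ?_ ?_ ?_ ?_ ?_ ?_) id
    · rw [sq_mul_comm cu, s1, s3, neg_one_mul, neg_neg]
    · rw [sq_mul_comm cv', s2, s4, neg_one_mul, neg_neg]
    · calc u * u' * (v * v') = u * v * (u' * v') := by
            rw [mul_assoc, mul_assoc, ← mul_assoc u' v v', ← cv, mul_assoc v u' v']
        _ = v * u * (v' * u') := by rw [huv, huv', neg_mul, mul_neg, neg_neg]
        _ = v * v' * (u * u') := by rw [mul_assoc, mul_assoc, ← mul_assoc u v' u', cu', mul_assoc v' u u']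
    · rw [← mul_assoc, sym _ _ huv, neg_mul, mul_assoc u v, cv, ← mul_assoc]
    · rw [mul_assoc v v' v, ← cv']
    · rw [← mul_assoc, ← cv, mul_assoc v u' v', huv', mul_neg, ← mul_assoc]

end CfsgLib.Classical22.SympTypeFour
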