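/-
Elements of odd prime order normalising a group of symplectic type in four dimensions.
-/
import Cfsg.Agent.Lib.Classical22.SympTypeFour.Frame

set_option autoImplicit false

namespace CfsgLib.Classical22.SympTypeFour

open Matrix

theorem conj_fixed_modEq {G : Type*} [Group G] (H : Subgroup G) [Finite H] {y : G}
    (hy : ∀ a ∈ H, y * a * y⁻¹ ∈ H) {r : ℕ} [Fact r.Prime] (hyr : y ^ r = 1) :
    Nat.card H ≡ Nat.card (H ⊓ Subgroup.centralizer {y} : Subgroup G) [MOD r] := by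
  classical
  haveI := Fintype.ofFinite H
  obtain ⟨f, hf⟩ : ∃ f : Function.End H, ∀ a, f a = ⟨y * a.1 * y⁻¹, hy a.1 a.2⟩ := ⟨fun a => _, fun _ => rfl⟩
  have hpow : ∀ n : ℕ, ∀ a : H, ((f ^ n) a).1 = y ^ n * a.1 * (y ^ n)⁻¹ := fun n => by
    induction n with
    | zero => intro a; simp; rfl
    | succ n ih =>
      intro a
      rw [pow_succ', show (f * f ^ n) a = f ((f ^ n) a) from rfl, hf]
      show y * ((f ^ n) a).1 * y⁻¹ = _
      rw [ih, pow_succ']
      group
  have hf1 : f ^ r ^ 1 = 1 := funext fun a => Subtype.ext (by rw [pow_one, hpow, hyr]; simp; rfl)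
  have h := Equiv.Perm.card_fixedPoints_modEq hf1
  simp only [Fintype.card_eq_nat_card] at h
  rwa [Nat.card_congr (α := f.fixedPoints) (β := (H ⊓ Subgroup.centralizer {y} : Subgroup G))
    { toFun := fun a => ⟨a.1.1, a.1.2, Subgroup.mem_centralizer_singleton_iff.2 (by
        have e := congrArg Subtype.val a.2
        rw [hf] at e
        exact (mul_inv_eq_iff_eq_mul.1 e).symm)⟩
      invFun := fun a => ⟨⟨a.1, a.2.1⟩, (hf _).trans (Subtype.ext (by
        show y * a.1 * y⁻¹ = a.1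
        rw [← Subgroup.mem_centralizer_singleton_iff.1 a.2.2, mul_inv_cancel_right]))⟩
      left_inv := fun a => rfl
      right_inv := fun a => rfl }] at h

variable {ι : Type} [Fintype ι] [DecidableEq ι] {F : Type*} [Field F] [Fintype F] {R : Subgroup (GL ι F)}

omit [Fintype F] in
theorem scalar_inj [Nonempty ι] {c d : F} (h : c • (1 : Matrix ι ι F) = d • 1) : c = d := by
  obtain ⟨i⟩ := ‹Nonempty ι›
  simpa using congrFun (congrFun h i) i

omit [Fintype F] in
theorem trace_conj (g : GL ι F) (M : Matrix ι ι F) :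
    Matrix.trace ((g : Matrix ι ι F) * M * ((g⁻¹ : GL ι F) : Matrix ι ι F)) = Matrix.trace M := by
  rw [Matrix.trace_mul_comm, ← mul_assoc, ← Units.val_mul, inv_mul_cancel, Units.val_one, one_mul]

theorem trace_zero (h2 : (2 : F) ≠ 0) (hS : Setting R) {a : GL ι F} (ha : a ∈ R)
    (hns : ¬ ∀ b ∈ R, a * b = b * a) : Matrix.trace (a : Matrix ι ι F) = 0 := by
  push Not at hns
  obtain ⟨b, hb, hab⟩ := hns
  have hba : b * a * b⁻¹ = -a := by
    rw [mul_inv_eq_iff_eq_mul, neg_mul, (hS.comm a ha b hb).resolve_left hab, neg_neg]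
  have h := trace_conj b (a : Matrix ι ι F)
  rw [← Units.val_mul, ← Units.val_mul, hba, Units.val_neg, Matrix.trace_neg] at h
  exact (mul_eq_zero.1 (show (2 : F) * Matrix.trace (a : Matrix ι ι F) = 0 by linear_combination -h)).resolve_left h2

omit [Fintype F] in
theorem fixed_of_scalar [Nonempty ι] (hsq : ∀ a ∈ R, a * a = 1 ∨ a * a = -1) {y : GL ι F} {r : ℕ} (hr : Odd r)
    (hyr : y ^ r = 1) {a : GL ι F} (ha : a ∈ R) (hy : y * a * y⁻¹ ∈ R) {c : F}
    (h : ((y * a * y⁻¹ : GL ι F) : Matrix ι ι F) = c • (a : Matrix ι ι F)) : y * a = a * y := by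
  have hone : ∀ t : GL ι F, t * t = 1 ∨ t * t = -1 →
      ∃ u : F, u ^ 2 = 1 ∧ ((t * t : GL ι F) : Matrix ι ι F) = u • 1 := fun t ht => by
    rcases ht with h | h
    · exact ⟨1, one_pow 2, by rw [h, one_smul, Units.val_one]⟩
    · exact ⟨-1, neg_one_sq, by rw [h, neg_one_smul, Units.val_neg, Units.val_one]⟩
  obtain ⟨u, hu, hua⟩ := hone a (hsq a ha)
  obtain ⟨w, hw, hwa⟩ := hone _ (hsq _ hy)
  have hcc : c * c * u = w := by
    refine scalar_inj (ι := ι) ?_
    rw [← hwa, Units.val_mul, h, smul_mul_smul_comm, ← Units.val_mul, hua, smul_smul]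
  have hc4 : c ^ 4 = 1 := by
    have : c ^ 4 * u ^ 2 = w ^ 2 := by rw [← hcc]; ring
    rwa [hu, hw, mul_one] at this
  have hiter : ∀ n : ℕ, ((y ^ n * a * (y ^ n)⁻¹ : GL ι F) : Matrix ι ι F) = c ^ n • (a : Matrix ι ι F) := fun n => by
    induction n with
    | zero => simp
    | succ n ih =>
      rw [show y ^ (n + 1) * a * (y ^ (n + 1))⁻¹ = y * (y ^ n * a * (y ^ n)⁻¹) * y⁻¹ by rw [pow_succ']; group,
        Units.val_mul, Units.val_mul, ih, mul_smul_comm, smul_mul_assoc, ← Units.val_mul, ← Units.val_mul, h,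
        smul_smul, pow_succ]
  have hcr : c ^ r = 1 := by
    have h1 := hiter r
    rw [hyr, one_mul, inv_one, mul_one] at h1
    refine (scalar_inj (ι := ι) ?_).symm
    have := congrArg (fun M => M * ((a⁻¹ : GL ι F) : Matrix ι ι F)) h1
    simp only [smul_mul_assoc, ← Units.val_mul, mul_inv_cancel, Units.val_one] at this
    rwa [one_smul]
  have hc : c = 1 := by
    have : Nat.gcd 4 r = 1 := Nat.Coprime.pow_left 2 (Nat.coprime_two_left.2 hr)
    have h1 := pow_gcd_eq_one.2 ⟨hc4, hcr⟩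
    rwa [this, pow_one] at h1
  exact mul_inv_eq_iff_eq_mul.1 (Units.ext (by rw [h, hc, one_smul]))

/-- The trace product counts the fixed cosets. -/
theorem fixed_trace [Nonempty ι] (h2 : (2 : F) ≠ 0) (hι : Fintype.card ι = 4) (hS : Setting R) {y : GL ι F}
    (hy : ∀ a ∈ R, y * a * y⁻¹ ∈ R) {r : ℕ} (hr : Odd r) (hyr : y ^ r = 1) :
    (Nat.card R : F) * (Matrix.trace (y : Matrix ι ι F) * Matrix.trace ((y⁻¹ : GL ι F) : Matrix ι ι F)) =
      16 * (Nat.card (R ⊓ Subgroup.centralizer {y} : Subgroup (GL ι F)) : F) := by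
  classical
  haveI : Fintype R := Fintype.ofFinite R
  obtain ⟨X, hX⟩ : ∃ X : Matrix ι ι F,
      X = ∑ a : R, ((a.1 : GL ι F) : Matrix ι ι F) * (y : Matrix ι ι F) * ((a.1⁻¹ : GL ι F) : Matrix ι ι F) := ⟨_, rfl⟩
  obtain ⟨t, ht⟩ := hS.irr.2 X (by
    rintro _ ⟨b, hb, rfl⟩
    rw [hX, Finset.sum_mul, Finset.mul_sum]
    refine Fintype.sum_equiv (Equiv.mulLeft (⟨b, hb⟩ : R)⁻¹) _ _ fun a => ?_
    simp only [Equiv.coe_mulLeft, Subgroup.coe_mul, Subgroup.coe_inv, ← Units.val_mul]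
    congr 1
    group)
  have htr : (4 : F) * t = Nat.card R * Matrix.trace (y : Matrix ι ι F) := by
    have h := congrArg Matrix.trace hX
    rw [ht, Matrix.trace_smul, Matrix.trace_one, hι, Matrix.trace_sum] at h
    simp only [trace_conj, Finset.sum_const, Finset.card_univ, nsmul_eq_mul, smul_eq_mul] at h
    rw [Nat.card_eq_fintype_card, ← h]
    push_cast
    ring
  have hterm : ∀ a : R, Matrix.trace (((a.1 : GL ι F) : Matrix ι ι F) * (y : Matrix ι ι F) *
      ((a.1⁻¹ : GL ι F) : Matrix ι ι F) * ((y⁻¹ : GL ι F) : Matrix ι ι F)) =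
      if y * a.1 = a.1 * y then (4 : F) else 0 := fun a => by
    obtain ⟨s, hs⟩ : ∃ s, s = a.1 * (y * (a.1)⁻¹ * y⁻¹) := ⟨_, rfl⟩
    have hsR : s ∈ R := hs ▸ mul_mem a.2 (hy _ (inv_mem a.2))
    have hval : ((a.1 : GL ι F) : Matrix ι ι F) * (y : Matrix ι ι F) * ((a.1⁻¹ : GL ι F) : Matrix ι ι F) *
        ((y⁻¹ : GL ι F) : Matrix ι ι F) = (s : Matrix ι ι F) := by
      rw [← Units.val_mul, ← Units.val_mul, ← Units.val_mul, hs]
      congr 1
      group
    rw [hval]
    split_ifs with h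
    · rw [hs, show y * (a.1)⁻¹ * y⁻¹ = (a.1)⁻¹ by
        rw [show y * (a.1)⁻¹ = (a.1)⁻¹ * y from ((Commute.inv_right h : Commute y (a.1)⁻¹)).eq, mul_inv_cancel_right],
        mul_inv_cancel, Units.val_one, Matrix.trace_one, hι]
      norm_num
    · refine trace_zero h2 hS hsR fun hc => h ?_
      obtain ⟨c, -, hcs⟩ := scalar_of_commute hS.irr hc
      have h1 : y * (a.1)⁻¹ * y⁻¹ = (a.1)⁻¹ * s := by rw [hs]; group
      have h3 : ((y * (a.1)⁻¹ * y⁻¹ : GL ι F) : Matrix ι ι F) = c • ((a.1⁻¹ : GL ι F) : Matrix ι ι F) := by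
        rw [h1, Units.val_mul, hcs, mul_smul_comm, mul_one]
      have := fixed_of_scalar hS.sq hr hyr (inv_mem a.2) (hy _ (inv_mem a.2)) h3
      exact (inv_inv a.1 ▸ (Commute.inv_right this).eq : y * a.1 = a.1 * y)
  have hsum := congrArg (fun M => Matrix.trace (M * ((y⁻¹ : GL ι F) : Matrix ι ι F))) hX
  simp only [Finset.sum_mul, Matrix.trace_sum, hterm, ht, smul_mul_assoc, one_mul, Matrix.trace_smul,
    smul_eq_mul, ← Finset.sum_filter, Finset.sum_const, nsmul_eq_mul] at hsum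
  have hC : (Finset.univ.filter fun a : R => y * a.1 = a.1 * y).card =
      Nat.card (R ⊓ Subgroup.centralizer {y} : Subgroup (GL ι F)) := by
    rw [← Fintype.card_subtype, ← Nat.card_eq_fintype_card]
    exact Nat.card_congr
      { toFun := fun a => ⟨a.1.1, a.1.2, Subgroup.mem_centralizer_singleton_iff.2 a.2.symm⟩
        invFun := fun a => ⟨⟨a.1, a.2.1⟩, (Subgroup.mem_centralizer_singleton_iff.1 a.2.2).symm⟩
        left_inv := fun a => rfl
        right_inv := fun a => rfl }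
  rw [hC] at hsum
  linear_combination (-Matrix.trace ((y⁻¹ : GL ι F) : Matrix ι ι F)) * htr + 4 * hsum

/-- The number of fixed cosets. -/
theorem fixed_index [Nonempty ι] (hS : Setting R) {y : GL ι F} :
    ∃ f, f ∈ ({1, 2, 4, 8, 16} : Finset ℕ) ∧
      Nat.card (R ⊓ Subgroup.centralizer {y} : Subgroup (GL ι F)) = f * Nat.card (Subgroup.center R) ∧
      (f = 16 → ∃ c : F, (y : Matrix ι ι F) = c • 1) := by
  obtain ⟨C, hC⟩ : ∃ C, C = R ⊓ Subgroup.centralizer {y} := ⟨_, rfl⟩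
  have hle : (Subgroup.center R).map R.subtype ≤ C := by
    rintro _ ⟨z, hz, rfl⟩
    obtain ⟨c, -, hc⟩ := scalar_of_commute hS.irr ((center_val z.1 z.2).1 hz)
    rw [hC]
    exact ⟨z.2, Subgroup.mem_centralizer_singleton_iff.2 (scalar_comm hc y)⟩
  obtain ⟨f, hf⟩ := Subgroup.card_dvd_of_le hle
  rw [card_center_map] at hf
  have hCR : C ≤ R := hC ▸ inf_le_left
  have hdvd := Subgroup.card_dvd_of_le hCR
  rw [hS.card, hf, mul_comm 16] at hdvd
  have hf16 : f ∣ 16 := Nat.dvd_of_mul_dvd_mul_left Nat.card_pos hdvd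
  refine ⟨f, ?_, by rw [← hC, hf, mul_comm], fun h => ?_⟩
  · have := Nat.le_of_dvd (by norm_num) hf16
    interval_cases f <;> first | decide | norm_num at hf16
  · have heq : C = R := Subgroup.eq_of_le_of_card_ge hCR (by rw [hS.card, hf, h, mul_comm])
    obtain ⟨c, -, hc⟩ := scalar_of_commute hS.irr (x := y) fun a ha => by
      have : a ∈ C := heq.symm ▸ ha
      rw [hC] at this
      exact (Subgroup.mem_centralizer_singleton_iff.1 this.2).symm
    exact ⟨c, hc⟩

/-- The congruences for the number of fixed cosets. -/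
theorem fixed_facts [Nonempty ι] (h2 : (2 : F) ≠ 0) (hι : Fintype.card ι = 4) (hS : Setting R)
    (hZ : Nat.card (Subgroup.center R) ∣ 4) {y : GL ι F} (hy : ∀ a ∈ R, y * a * y⁻¹ ∈ R) {r : ℕ} [hrp : Fact r.Prime]
    (hr : Odd r) (hyr : y ^ r = 1) (hns : ∀ c : F, (y : Matrix ι ι F) ≠ c • 1) :
    ∃ f, f ∈ ({1, 2, 4, 8} : Finset ℕ) ∧ 16 % r = f % r ∧
      Nat.card (R ⊓ Subgroup.centralizer {y} : Subgroup (GL ι F)) = f * Nat.card (Subgroup.center R) ∧
      Matrix.trace (y : Matrix ι ι F) * Matrix.trace ((y⁻¹ : GL ι F) : Matrix ι ι F) = f := by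
  obtain ⟨f, hf, hfC, hf16⟩ := fixed_index hS (y := y)
  obtain ⟨Z, hZd⟩ : ∃ Z, Z = Nat.card (Subgroup.center R) := ⟨_, rfl⟩
  have hne : f ≠ 16 := fun h => by
    obtain ⟨c, hc⟩ := hf16 h
    exact hns c hc
  refine ⟨f, by simp at hf ⊢; tauto, ?_, hfC, ?_⟩
  · have h := conj_fixed_modEq R hy hyr
    rw [hS.card, hfC] at h
    refine Nat.ModEq.cancel_right_of_coprime ?_ h
    rw [Nat.coprime_iff_gcd_eq_one.symm]
    refine Nat.Coprime.coprime_dvd_right hZ (show Nat.Coprime r (2 ^ 2) from Nat.Coprime.pow_right 2 ?_)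
    exact Nat.coprime_two_right.2 hr
  · have h := fixed_trace h2 hι hS hy hr hyr
    rw [hS.card, hfC, ← hZd] at h
    have hZ0 : (Z : F) ≠ 0 := by
      have h4 : (4 : F) ≠ 0 := by rw [show (4 : F) = 2 * 2 by norm_num]; exact mul_ne_zero h2 h2
      obtain ⟨k, hk⟩ := hZd ▸ hZ
      intro h0
      have := congrArg (fun n : ℕ => (n : F)) hk
      simp [h0, h4] at this
    have h16 : (16 : F) ≠ 0 := by rw [show (16 : F) = 2 ^ 4 by norm_num]; exact pow_ne_zero 4 h2
    simp only [Nat.cast_mul, Nat.cast_ofNat] at h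
    exact mul_left_cancel₀ (mul_ne_zero h16 hZ0) (by linear_combination h)

/-- No prime order at least seven. -/
theorem no_large [Nonempty ι] (h2 : (2 : F) ≠ 0) (hι : Fintype.card ι = 4) (hS : Setting R)
    (hZ : Nat.card (Subgroup.center R) ∣ 4) {y : GL ι F} (hy : ∀ a ∈ R, y * a * y⁻¹ ∈ R) {r : ℕ} [hrp : Fact r.Prime]
    (h5 : 5 < r) (hyr : y ^ r = 1) (hns : ∀ c : F, (y : Matrix ι ι F) ≠ c • 1) : False := by
  have hr : Odd r := hrp.out.odd_of_ne_two (by omega)
  obtain ⟨f, hf, hmod, hfC, -⟩ := fixed_facts h2 hι hS hZ hy hr hyr hns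
  have hdvd : r ∣ 16 - f := (Nat.modEq_iff_dvd' (by simp at hf; omega)).1 (Nat.ModEq.symm hmod)
  have h7 : r = 7 ∧ f = 2 := by
    have h16 : r ≤ 16 - f := Nat.le_of_dvd (by simp at hf; omega) hdvd
    have hp := hrp.out
    simp at hf
    rcases hf with rfl | rfl | rfl | rfl <;> interval_cases r <;> first | omega | norm_num at hp
  obtain ⟨rfl, rfl⟩ := h7
  obtain ⟨C, hC⟩ : ∃ C, C = R ⊓ Subgroup.centralizer {y} := ⟨_, rfl⟩
  rw [← hC] at hfC
  have hle : (Subgroup.center R).map R.subtype ≤ C := by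
    rintro _ ⟨z, hz, rfl⟩
    obtain ⟨t, -, ht⟩ := scalar_of_commute hS.irr ((center_val z.1 z.2).1 hz)
    rw [hC]
    exact ⟨z.2, Subgroup.mem_centralizer_singleton_iff.2 (scalar_comm ht y)⟩
  have hZpos : 0 < Nat.card (Subgroup.center R) := Nat.card_pos
  obtain ⟨c, hc, hcZ⟩ : ∃ c ∈ C, c ∉ (Subgroup.center R).map R.subtype := by
    by_contra h
    push Not at h
    have := Subgroup.card_le_of_le (show C ≤ (Subgroup.center R).map R.subtype from h)
    rw [hfC, card_center_map] at this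
    omega
  rw [hC] at hc
  obtain ⟨b, hb, hcb⟩ : ∃ b ∈ R, c * b = -(b * c) := by
    by_contra h
    push Not at h
    exact hcZ ⟨⟨c, hc.1⟩, (center_val c hc.1).2 fun b hb => (hS.comm c hc.1 b hb).resolve_right (h b hb), rfl⟩
  have hD := card_commutant h2 hS le_rfl hc.1 hb hcb
  obtain ⟨D, hDd⟩ : ∃ D, D = R ⊓ Subgroup.centralizer {c} := ⟨_, rfl⟩
  rw [← hDd] at hD
  have hyc : y * c * y⁻¹ = c := by
    rw [← Subgroup.mem_centralizer_singleton_iff.1 hc.2, mul_inv_cancel_right]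
  have hmod' := conj_fixed_modEq D (y := y) (r := 7) (fun a ha => by
    rw [hDd] at ha ⊢
    refine ⟨hy a ha.1, Subgroup.mem_centralizer_singleton_iff.2 ?_⟩
    have h1 := Subgroup.mem_centralizer_singleton_iff.1 ha.2
    calc y * a * y⁻¹ * c = y * a * y⁻¹ * (y * c * y⁻¹) := by rw [hyc]
      _ = y * (a * c) * y⁻¹ := by group
      _ = y * (c * a) * y⁻¹ := by rw [h1]
      _ = y * c * y⁻¹ * (y * a * y⁻¹) := by group
      _ = _ := by rw [hyc]) hyr
  -- the fixed points of `y` commute with `c`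
  have hCD : D ⊓ Subgroup.centralizer {y} = C := by
    refine le_antisymm (fun a ha => hC ▸ ⟨(hDd ▸ ha.1 : a ∈ R ⊓ _).1, ha.2⟩) fun a ha => ?_
    obtain ⟨Z, hZd⟩ : ∃ Z, Z = (Subgroup.center R).map R.subtype := ⟨_, rfl⟩
    have ha' : a ∈ R ⊓ Subgroup.centralizer {y} := hC ▸ ha
    refine ⟨hDd ▸ ⟨ha'.1, Subgroup.mem_centralizer_singleton_iff.2 ?_⟩, ha'.2⟩
    rcases hS.comm a ha'.1 c hc.1 with h | h
    · exact h
    · exfalso
      have hac : a ∉ Z := fun hz => by
        rw [hZd] at hz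
        obtain ⟨z, hz, rfl⟩ := hz
        have h1 : R.subtype z * c = c * R.subtype z := (center_val z.1 z.2).1 hz c hc.1
        rw [h] at h1
        exact neg_ne_self h2 _ h1
      have key := card_commutant h2 hS (hC ▸ inf_le_left : C ≤ R) hc.1 ha (by rw [h, neg_neg])
      have hZle : Z ≤ C ⊓ Subgroup.centralizer {c} := fun z hz => ⟨hle (hZd ▸ hz), by
        rw [hZd] at hz
        obtain ⟨z, hz, rfl⟩ := hz
        exact Subgroup.mem_centralizer_singleton_iff.2 ((center_val z.1 z.2).1 hz c hc.1)⟩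
      obtain ⟨E, hE⟩ : ∃ E, E = C ⊓ Subgroup.centralizer {c} := ⟨_, rfl⟩
      rw [← hE] at key hZle
      have hEeq := Subgroup.eq_of_le_of_card_ge hZle (by rw [hZd, card_center_map]; omega)
      refine hcZ (hZd ▸ hEeq ▸ hE ▸ ?_)
      exact ⟨hC ▸ hc, Subgroup.mem_centralizer_singleton_iff.2 rfl⟩
  rw [hCD, hfC] at hmod'
  have hc16 := hS.card
  have h8 : Nat.card D = 8 * Nat.card (Subgroup.center R) := by omega
  rw [h8] at hmod'
  have hcop : Nat.gcd 7 (Nat.card (Subgroup.center R)) = 1 :=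
    Nat.Coprime.coprime_dvd_right hZ (by norm_num)
  have : 8 ≡ 2 [MOD 7] := Nat.ModEq.cancel_right_of_coprime hcop hmod'
  norm_num [Nat.ModEq] at this

/-- Transvections do not normalise such a group. -/
theorem no_transvection [Nonempty ι] (h2 : (2 : F) ≠ 0) (hι : Fintype.card ι = 4) (hS : Setting R) {p : ℕ}
    [hp : Fact p.Prime] [CharP F p] (hp2 : p ≠ 2) {y : GL ι F} (hy : ∀ a ∈ R, y * a * y⁻¹ ∈ R) (hyp : y ^ p = 1)
    (hns : ∀ c : F, (y : Matrix ι ι F) ≠ c • 1) {l : ι → F}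
    (hl : ∀ v, ∃ t : F, (y : Matrix ι ι F) *ᵥ v = v + t • l) (hyl : (y : Matrix ι ι F) *ᵥ l = l) : False := by
  refine absurd ?_ (fun h : ∀ a ∈ R, y * a = a * y => by
    obtain ⟨c, -, hc⟩ := scalar_of_commute hS.irr h
    exact hns c hc)
  obtain ⟨M, hM⟩ : ∃ M : GL ι F → Matrix ι ι F, ∀ a, M a = (a : Matrix ι ι F) := ⟨_, fun _ => rfl⟩
  -- the commutator with `y` fixes the line of `y`
  have hs : ∀ a ∈ R, ∃ μ : F, ((y * a * y⁻¹ * a⁻¹ : GL ι F) : Matrix ι ι F) *ᵥ l = μ • l := by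
    intro a ha
    obtain ⟨s, hsd⟩ : ∃ s, s = y * a * y⁻¹ * a⁻¹ := ⟨_, rfl⟩
    rw [← hsd]
    have hsR : s ∈ R := hsd ▸ mul_mem (hy a ha) (inv_mem ha)
    by_cases hsc : ∀ b ∈ R, s * b = b * s
    · obtain ⟨c, -, hc⟩ := scalar_of_commute hS.irr hsc
      exact ⟨c, by rw [hc, smul_mulVec, one_mulVec]⟩
    -- the image of `s - 1`
    obtain ⟨L, hL⟩ : ∃ L, L = Submodule.span F ({l, (a : Matrix ι ι F) *ᵥ l} : Set (ι → F)) := ⟨_, rfl⟩
    have himage : ∀ v, ((s : Matrix ι ι F) *ᵥ v) - v ∈ L := fun v => by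
      obtain ⟨w, hw⟩ : ∃ w, w = ((a⁻¹ : GL ι F) : Matrix ι ι F) *ᵥ v := ⟨_, rfl⟩
      obtain ⟨w', hw'⟩ : ∃ w', w' = ((y⁻¹ : GL ι F) : Matrix ι ι F) *ᵥ w := ⟨_, rfl⟩
      obtain ⟨t, ht⟩ := hl w'
      obtain ⟨t', ht'⟩ := hl ((a : Matrix ι ι F) *ᵥ w')
      have hyw : (y : Matrix ι ι F) *ᵥ w' = w := by
        rw [hw', mulVec_mulVec, ← Units.val_mul, mul_inv_cancel, Units.val_one, one_mulVec]
      have haw : (a : Matrix ι ι F) *ᵥ w = v := by
        rw [hw, mulVec_mulVec, ← Units.val_mul, mul_inv_cancel, Units.val_one, one_mulVec]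
      have hsv : (s : Matrix ι ι F) *ᵥ v = (y : Matrix ι ι F) *ᵥ ((a : Matrix ι ι F) *ᵥ w') := by
        rw [hw', hw, hsd, mulVec_mulVec, mulVec_mulVec, mulVec_mulVec, ← Units.val_mul, ← Units.val_mul,
          ← Units.val_mul, mul_assoc (y * a) y⁻¹ a⁻¹]
      rw [hyw] at ht
      have haw' : (a : Matrix ι ι F) *ᵥ w' = v - t • ((a : Matrix ι ι F) *ᵥ l) := by
        rw [← haw]
        conv_rhs => rw [ht]
        rw [mulVec_add, mulVec_smul, add_sub_cancel_right]
      rw [hsv, ht', haw', hL, show v - t • ((a : Matrix ι ι F) *ᵥ l) + t' • l - v =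
        t' • l + (-t) • ((a : Matrix ι ι F) *ᵥ l) by module]
      exact Submodule.add_mem _ (Submodule.smul_mem _ _ (Submodule.subset_span (by simp)))
        (Submodule.smul_mem _ _ (Submodule.subset_span (by simp)))
    have hLd : Module.finrank F L ≤ 2 := by
      rw [hL, show ({l, (a : Matrix ι ι F) *ᵥ l} : Set (ι → F)) = Set.range ![l, (a : Matrix ι ι F) *ᵥ l] by
        simp [Set.pair_comm]]
      exact (finrank_range_le_card _).trans (by simp)
    have hss : s * s = 1 := by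
      refine (hS.sq s hsR).resolve_right fun h => ?_
      have hinj : ∀ v, (s : Matrix ι ι F) *ᵥ v = v → v = 0 := fun v hv => by
        have h1 : ((s * s : GL ι F) : Matrix ι ι F) *ᵥ v = v := by rw [Units.val_mul, ← mulVec_mulVec, hv, hv]
        rw [h, Units.val_neg, Units.val_one, neg_mulVec, one_mulVec] at h1
        have h0 : (2 : F) • v = 0 := by
          rw [two_smul]; nth_rewrite 1 [← h1]; exact neg_add_cancel v
        exact (smul_eq_zero.1 h0).resolve_left h2
      obtain ⟨φ, hφ⟩ : ∃ φ : (ι → F) →ₗ[F] L, ∀ v, (φ v : ι → F) = (s : Matrix ι ι F) *ᵥ v - v :=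
        ⟨LinearMap.codRestrict L (Matrix.toLin' (s : Matrix ι ι F) - LinearMap.id) (fun v => by
          simpa using himage v), fun v => by simp⟩
      have := LinearMap.finrank_le_finrank_of_injective (f := φ) ((injective_iff_map_eq_zero φ).2 fun v hv =>
        hinj v (sub_eq_zero.1 (by rw [← hφ, hv]; rfl)))
      rw [Module.finrank_pi, hι] at this
      omega
    -- the `-1`-space of `s` is the image
    obtain ⟨N, hN⟩ : ∃ N : Submodule F (ι → F), N = LinearMap.range (Matrix.toLin' (s : Matrix ι ι F) - LinearMap.id) :=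
      ⟨_, rfl⟩
    have hNL : N ≤ L := by
      rw [hN]; rintro _ ⟨v, rfl⟩; simpa using himage v
    have hNneg : ∀ u ∈ N, (s : Matrix ι ι F) *ᵥ u = -u := by
      rw [hN]; rintro _ ⟨v, rfl⟩
      simp only [LinearMap.sub_apply, Matrix.toLin'_apply, LinearMap.id_apply]
      rw [mulVec_sub, mulVec_mulVec, ← Units.val_mul, hss, Units.val_one, one_mulVec, neg_sub]
    have hN2 : Module.finrank F N = 2 := by
      -- the trace of an involution
      have hidem : LinearMap.IsProj N ((-(2 : F)⁻¹) • (Matrix.toLin' (s : Matrix ι ι F) - LinearMap.id)) := by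
        refine ⟨fun v => ?_, fun v hv => ?_⟩
        · rw [LinearMap.smul_apply]; exact N.smul_mem _ (hN ▸ ⟨v, rfl⟩)
        · rw [LinearMap.smul_apply, LinearMap.sub_apply, Matrix.toLin'_apply, LinearMap.id_apply, hNneg v hv,
            show -v - v = (-2 : F) • v by module, smul_smul,
            show -(2 : F)⁻¹ * -2 = 1 by field_simp, one_smul]
      have ht := hidem.trace
      rw [map_smul, map_sub, LinearMap.trace_id, Module.finrank_pi, hι, Matrix.trace_toLin'_eq,
        trace_zero h2 hS hsR hsc, smul_eq_mul] at ht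
      push_cast at ht
      have hle : Module.finrank F N ≤ 2 := (Submodule.finrank_mono hNL).trans hLd
      have hcast : ((Module.finrank F N : ℕ) : F) = 2 := by
        rw [← ht]; field_simp; ring
      interval_cases h : Module.finrank F N
      · exact absurd (by simpa using hcast) (Ne.symm h2)
      · exact absurd (by push_cast at hcast; linear_combination hcast : (0 : F) = 1) zero_ne_one
      · rfl
    have hLN : L = N := (Submodule.eq_of_le_of_finrank_le hNL (by omega)).symm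
    exact ⟨-1, by rw [hNneg l (hLN ▸ hL ▸ Submodule.subset_span (by simp)), neg_one_smul]⟩
  -- elements fixing the line commute with `y`
  have hC : ∀ a ∈ R, (∃ μ : F, (a : Matrix ι ι F) *ᵥ l = μ • l) → y * a = a * y := by
    intro a ha ⟨μ, hμ⟩
    obtain ⟨s, hsd⟩ : ∃ s, s = y * a * y⁻¹ * a⁻¹ := ⟨_, rfl⟩
    have hsR : s ∈ R := hsd ▸ mul_mem (hy a ha) (inv_mem ha)
    have hμ0 : μ ≠ 0 := by
      rintro rfl
      rw [zero_smul] at hμ
      have h1 : l = 0 := by
        have h := congrArg (fun u => ((a⁻¹ : GL ι F) : Matrix ι ι F) *ᵥ u) hμ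
        simp only [mulVec_mulVec, ← Units.val_mul, inv_mul_cancel, Units.val_one, one_mulVec, mulVec_zero] at h
        exact h
      obtain ⟨i⟩ := ‹Nonempty ι›
      refine hns 1 ?_
      rw [one_smul]
      refine Matrix.ext_of_mulVec_single fun j => ?_
      obtain ⟨t, ht⟩ := hl (Pi.single j 1)
      rw [ht, h1, smul_zero, add_zero, one_mulVec]
    have hinv : ∀ (g : GL ι F) (u u' : ι → F), (g : Matrix ι ι F) *ᵥ u = u' →
        ((g⁻¹ : GL ι F) : Matrix ι ι F) *ᵥ u' = u := fun g u u' h => by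
      rw [← h, mulVec_mulVec, ← Units.val_mul, inv_mul_cancel, Units.val_one, one_mulVec]
    have hainv : ((a⁻¹ : GL ι F) : Matrix ι ι F) *ᵥ l = μ⁻¹ • l := hinv a _ _ (by
      rw [mulVec_smul, hμ, smul_smul, inv_mul_cancel₀ hμ0, one_smul])
    have hyinv : ((y⁻¹ : GL ι F) : Matrix ι ι F) *ᵥ l = l := hinv y _ _ hyl
    have hunip : ∀ v, ∃ t : F, (s : Matrix ι ι F) *ᵥ v = v + t • l := fun v => by
      obtain ⟨w, hw⟩ : ∃ w, w = ((a⁻¹ : GL ι F) : Matrix ι ι F) *ᵥ v := ⟨_, rfl⟩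
      obtain ⟨w', hw'⟩ : ∃ w', w' = ((y⁻¹ : GL ι F) : Matrix ι ι F) *ᵥ w := ⟨_, rfl⟩
      obtain ⟨t, ht⟩ := hl w'
      obtain ⟨t', ht'⟩ := hl ((a : Matrix ι ι F) *ᵥ w')
      have hyw : (y : Matrix ι ι F) *ᵥ w' = w := by
        rw [hw', mulVec_mulVec, ← Units.val_mul, mul_inv_cancel, Units.val_one, one_mulVec]
      have haw : (a : Matrix ι ι F) *ᵥ w = v := by
        rw [hw, mulVec_mulVec, ← Units.val_mul, mul_inv_cancel, Units.val_one, one_mulVec]
      have hsv : (s : Matrix ι ι F) *ᵥ v = (y : Matrix ι ι F) *ᵥ ((a : Matrix ι ι F) *ᵥ w') := by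
        rw [hw', hw, hsd, mulVec_mulVec, mulVec_mulVec, mulVec_mulVec, ← Units.val_mul, ← Units.val_mul,
          ← Units.val_mul, mul_assoc (y * a) y⁻¹ a⁻¹]
      rw [hyw] at ht
      have haw' : (a : Matrix ι ι F) *ᵥ w' = v - t • (μ • l) := by
        rw [← haw, ← hμ]
        conv_rhs => rw [ht]
        rw [mulVec_add, mulVec_smul, add_sub_cancel_right]
      exact ⟨t' - t * μ, by rw [hsv, ht', haw', sub_smul, mul_smul]; module⟩
    have hsl : (s : Matrix ι ι F) *ᵥ l = l := by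
      rw [hsd, Units.val_mul, Units.val_mul, Units.val_mul, ← mulVec_mulVec, ← mulVec_mulVec, ← mulVec_mulVec, hainv,
        mulVec_smul, hyinv, mulVec_smul, hμ, smul_smul, inv_mul_cancel₀ hμ0, one_smul, hyl]
    have hss : (s * s : GL ι F) = 1 := by
      refine (hS.sq s hsR).resolve_right fun h => ?_
      have h1 : ((s * s : GL ι F) : Matrix ι ι F) *ᵥ l = l := by rw [Units.val_mul, ← mulVec_mulVec, hsl, hsl]
      rw [h, Units.val_neg, Units.val_one, neg_mulVec, one_mulVec] at h1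
      have h0 : (2 : F) • l = 0 := by rw [two_smul]; nth_rewrite 1 [← h1]; exact neg_add_cancel l
      have hl0 := (smul_eq_zero.1 h0).resolve_left h2
      refine hns 1 ?_
      rw [one_smul]
      refine Matrix.ext_of_mulVec_single fun j => ?_
      obtain ⟨t, ht⟩ := hl (Pi.single j 1)
      rw [ht, hl0, smul_zero, add_zero, one_mulVec]
    have hs1 : s = 1 := Units.ext (Matrix.ext_of_mulVec_single fun j => by
      obtain ⟨t, ht⟩ := hunip (Pi.single j 1)
      have h2t : ((s * s : GL ι F) : Matrix ι ι F) *ᵥ Pi.single j 1 = Pi.single j 1 + (2 * t) • l := by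
        rw [Units.val_mul, ← mulVec_mulVec, ht, mulVec_add, mulVec_smul, hsl, ht]; module
      rw [hss, Units.val_one, one_mulVec] at h2t
      rw [ht, Units.val_one, one_mulVec]
      have h0 : (2 * t) • l = 0 := by
        have := h2t.symm
        rwa [add_eq_left] at this
      rw [mul_smul] at h0
      rw [(smul_eq_zero.1 h0).resolve_left h2, add_zero])
    rw [hsd, mul_inv_eq_one, mul_inv_eq_iff_eq_mul] at hs1
    exact hs1
  -- so conjugation by `y` moves elements by fixed ones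
  intro a ha
  obtain ⟨s, hsd⟩ : ∃ s, s = y * a * y⁻¹ * a⁻¹ := ⟨_, rfl⟩
  have hsR : s ∈ R := hsd ▸ mul_mem (hy a ha) (inv_mem ha)
  have hys := hC s hsR (hsd ▸ hs a ha)
  have hiter : ∀ n : ℕ, y ^ n * a * (y ^ n)⁻¹ = s ^ n * a := fun n => by
    induction n with
    | zero => simp
    | succ n ih =>
      calc y ^ (n + 1) * a * (y ^ (n + 1))⁻¹ = y * (y ^ n * a * (y ^ n)⁻¹) * y⁻¹ := by rw [pow_succ']; group
        _ = (y * s ^ n) * a * y⁻¹ := by rw [ih]; group
        _ = (s ^ n * y) * a * y⁻¹ := by rw [(Commute.pow_right hys n : Commute y (s ^ n)).eq]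
        _ = s ^ n * (y * a * y⁻¹) := by group
        _ = s ^ n * (s * a) := by rw [hsd, inv_mul_cancel_right]
        _ = s ^ (n + 1) * a := by rw [pow_succ, mul_assoc]
  have hsp : s ^ p = 1 := by
    have h := hiter p
    rw [hyp, one_mul, inv_one, mul_one] at h
    exact (eq_comm.1 h) |> fun e => by simpa using e
  have hs4 : s ^ 4 = 1 := by
    rcases hS.sq s hsR with h | h
    · rw [show 4 = 2 * 2 from rfl, pow_mul, sq s, h, one_pow]
    · rw [show 4 = 2 * 2 from rfl, pow_mul, sq s, h, neg_one_sq]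
  have : s = 1 := by
    have h1 := pow_gcd_eq_one.2 ⟨hs4, hsp⟩
    rwa [show Nat.gcd 4 p = 1 from Nat.Coprime.pow_left 2 (Nat.coprime_two_left.2 (hp.out.odd_of_ne_two hp2)),
      pow_one] at h1
  rw [hsd, mul_inv_eq_one, mul_inv_eq_iff_eq_mul] at this
  exact this

end CfsgLib.Classical22.SympTypeFour
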