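/-
Elements of orders two, three and five normalising a group of symplectic type in four dimensions.
-/
import Cfsg.Agent.Lib.Classical22.SympTypeFour.Fix

set_option autoImplicit false

namespace CfsgLib.Classical22.SympTypeFour

open Matrix

variable {ι : Type} [Fintype ι] [DecidableEq ι] {F : Type*} [Field F] [Fintype F] {R : Subgroup (GL ι F)}

/-- Forms semilinear in the second argument. -/
structure Sesq (σ : F →+* F) (h : (ι → F) → (ι → F) → F) : Prop where
  addL : ∀ x y z, h (x + y) z = h x z + h y z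
  addR : ∀ x y z, h x (y + z) = h x y + h x z
  smulL : ∀ (c : F) x y, h (c • x) y = c * h x y
  smulR : ∀ (c : F) x y, h x (c • y) = σ c * h x y

/-- `g` preserves `h`. -/
def Pres (h : (ι → F) → (ι → F) → F) (g : GL ι F) : Prop :=
  ∀ x y, h ((g : Matrix ι ι F) *ᵥ x) ((g : Matrix ι ι F) *ᵥ y) = h x y

omit [Fintype F] in
theorem pres_mul {h : (ι → F) → (ι → F) → F} {g g' : GL ι F} (hg : Pres h g) (hg' : Pres h g') : Pres h (g * g') :=
  fun x y => by rw [Units.val_mul, ← mulVec_mulVec, ← mulVec_mulVec, hg, hg']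

omit [Fintype F] in
theorem pres_one {h : (ι → F) → (ι → F) → F} : Pres h (1 : GL ι F) := fun x y => by
  rw [Units.val_one, one_mulVec, one_mulVec]

omit [Fintype F] in
theorem pres_pow {h : (ι → F) → (ι → F) → F} {g : GL ι F} (hg : Pres h g) : ∀ n : ℕ, Pres h (g ^ n) := fun n => by
  induction n with
  | zero => rw [pow_zero]; exact pres_one
  | succ n ih => rw [pow_succ]; exact pres_mul ih hg

omit [Fintype F] in
theorem pres_adjoint {h : (ι → F) → (ι → F) → F} {g : GL ι F} (hg : Pres h g) (x y : ι → F) :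
    h ((g : Matrix ι ι F) *ᵥ x) y = h x (((g⁻¹ : GL ι F) : Matrix ι ι F) *ᵥ y) := by
  conv_rhs => rw [← hg]
  rw [mulVec_mulVec _ (g : Matrix ι ι F) ((g⁻¹ : GL ι F) : Matrix ι ι F), ← Units.val_mul, mul_inv_cancel,
    Units.val_one, one_mulVec]

theorem normalizer_of_le {y : GL ι F} (hy : ∀ a ∈ R, y * a * y⁻¹ ∈ R) : y ∈ Cfsg.Geo.subgroupNormalizer R := by
  have hle : R.map (MulAut.conj y).toMonoidHom ≤ R := by
    rintro _ ⟨a, ha, rfl⟩
    exact hy a ha
  have heq := Subgroup.eq_of_le_of_card_ge hle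
    (le_of_eq (Nat.card_congr (R.equivMapOfInjective _ (MulAut.conj y).injective).toEquiv))
  refine Subgroup.mem_normalizer_iff.2 fun a => ⟨hy a, fun ha => ?_⟩
  obtain ⟨b, hb, hab⟩ := heq.symm ▸ ha
  exact mul_left_cancel (mul_right_cancel hab : y * b = y * a) ▸ hb

omit [Fintype F] in
theorem conj_mem_of_normalizer {y : GL ι F} (hy : y ∈ Cfsg.Geo.subgroupNormalizer R) :
    ∀ a ∈ R, y * a * y⁻¹ ∈ R := fun a ha => (Subgroup.mem_normalizer_iff.1 hy a).1 ha

omit [Fintype F] in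
theorem val_eq {u v : GL ι F} (h : u * v = -(v * u)) :
    (u : Matrix ι ι F) * v = -((v : Matrix ι ι F) * u) := by
  rw [← Units.val_mul, h, Units.val_neg, Units.val_mul]

omit [Fintype F] in
theorem val_sq {u : GL ι F} (h : u * u = -1) : (u : Matrix ι ι F) * u = -1 := by
  rw [← Units.val_mul, h, Units.val_neg, Units.val_one]

omit [Fintype F] in
theorem val_sq_one {u : GL ι F} (h : u * u = 1) : (u : Matrix ι ι F) * u = 1 := by
  rw [← Units.val_mul, h, Units.val_one]

omit [Fintype F] in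
/-- The element of order three of a quaternion pair. -/
theorem exists_quat (h2 : (2 : F) ≠ 0) {j k : GL ι F} (hj : j * j = -1) (hk : k * k = -1) (hjk : j * k = -(k * j)) :
    ∃ w : GL ι F, (w : Matrix ι ι F) = (-(2 : F)⁻¹) • (1 + (j : Matrix ι ι F) + k + (j : Matrix ι ι F) * k) ∧
      (w : Matrix ι ι F) * w + w + 1 = 0 ∧ w ^ 3 = 1 ∧ w * j = k * w ∧ w * k = j * k * w := by
  have hJ := val_sq hj
  have hK := val_sq hk
  have hJK := val_eq hjk
  obtain ⟨J, hJd⟩ : ∃ J, J = (j : Matrix ι ι F) := ⟨_, rfl⟩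
  obtain ⟨K, hKd⟩ : ∃ K, K = (k : Matrix ι ι F) := ⟨_, rfl⟩
  rw [← hJd, ← hKd] at hJK ⊢
  rw [← hJd] at hJ
  rw [← hKd] at hK
  have hKJ : K * J = -(J * K) := by rw [hJK, neg_neg]
  have hKJK : K * (J * K) = J := by rw [← mul_assoc, hKJ, neg_mul, mul_assoc, hK, mul_neg, mul_one, neg_neg]
  have hJKJ : J * K * J = K := by rw [mul_assoc, hKJ, mul_neg, ← mul_assoc, hJ, neg_mul, one_mul, neg_neg]
  have hJJK : J * (J * K) = -K := by rw [← mul_assoc, hJ, neg_mul, one_mul]
  have hJKK : J * K * K = -J := by rw [mul_assoc, hK, mul_neg, mul_one]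
  have hJKJK : J * K * (J * K) = -1 := by rw [← mul_assoc, hJKJ, hK]
  obtain ⟨W, hW⟩ : ∃ W, W = (-(2 : F)⁻¹) • (1 + J + K + J * K) := ⟨_, rfl⟩
  have hq : W * W + W + 1 = 0 := by
    have hS : (1 + J + K + J * K) * (1 + J + K + J * K) = (2 : F) • (1 + J + K + J * K) - (4 : F) • 1 := by
      simp only [mul_add, add_mul, one_mul, mul_one, hJ, hK, hKJ, hKJK, hJKJ, hJJK, hJKK, hJKJK]
      module
    rw [hW, smul_mul_smul_comm, hS]
    match_scalars <;> field_simp <;> ring
  have h3 : W * (W * W) = 1 := by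
    have e1 : W * (W * W + W + 1) = 0 := by rw [hq, mul_zero]
    rw [mul_add, mul_add, mul_one] at e1
    have e2 : W * (W * W) - 1 = (W * (W * W) + W * W + W) - (W * W + W + 1) := by abel
    rw [e1, hq, sub_zero] at e2
    exact sub_eq_zero.1 e2
  obtain ⟨w, hw⟩ : ∃ w : GL ι F, (w : Matrix ι ι F) = W :=
    ⟨⟨W, W * W, h3, by rw [mul_assoc]; exact h3⟩, rfl⟩
  refine ⟨w, hw.trans hW, by rw [hw]; exact hq, Units.ext ?_, Units.ext ?_, Units.ext ?_⟩
  · rw [Units.val_pow_eq_pow_val, hw, Units.val_one, pow_succ, sq, mul_assoc]; exact h3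
  · rw [Units.val_mul, Units.val_mul, hw, ← hJd, ← hKd, hW, smul_mul_assoc, mul_smul_comm]
    congr 1
    simp only [mul_add, add_mul, one_mul, mul_one, hJ, hK, hKJ, hKJK, hJKJ]
    abel
  · rw [Units.val_mul, Units.val_mul, Units.val_mul, hw, ← hJd, ← hKd, hW, smul_mul_assoc, mul_smul_comm]
    congr 1
    simp only [mul_add, add_mul, one_mul, mul_one, hK, hKJ, hJKJ, hJKK, hJKJK]
    abel

omit [Fintype F] in
/-- Elements commuting with a pair commute with its element of order three. -/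
theorem quat_comm {j k w c : GL ι F}
    (hw : (w : Matrix ι ι F) = (-(2 : F)⁻¹) • (1 + (j : Matrix ι ι F) + k + (j : Matrix ι ι F) * k))
    (hj : c * j = j * c) (hk : c * k = k * c) : c * w = w * c := by
  refine Units.ext ?_
  have hj' : (c : Matrix ι ι F) * j = j * c := congrArg Units.val hj
  have hk' : (c : Matrix ι ι F) * k = k * c := congrArg Units.val hk
  rw [Units.val_mul, Units.val_mul, hw, smul_mul_assoc, mul_smul_comm]
  congr 1
  rw [mul_add, mul_add, mul_add, add_mul, add_mul, add_mul, one_mul, mul_one, hj', hk', ← mul_assoc, hj', mul_assoc,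
    hk', ← mul_assoc]

omit [Fintype F] in
/-- The element of order three is an isometry. -/
theorem quat_pres (h2 : (2 : F) ≠ 0) {σ : F →+* F} {h : (ι → F) → (ι → F) → F} (hh : Sesq σ h) {j k w : GL ι F}
    (hj : j * j = -1) (hk : k * k = -1) (hjk : j * k = -(k * j)) (pj : Pres h j) (pk : Pres h k)
    (hw : (w : Matrix ι ι F) = (-(2 : F)⁻¹) • (1 + (j : Matrix ι ι F) + k + (j : Matrix ι ι F) * k)) : Pres h w := by
  have hneg : ∀ g : GL ι F, g * g = -1 → Pres h g →
      ∀ x y, h ((g : Matrix ι ι F) *ᵥ x) y = h x ((-(g : Matrix ι ι F)) *ᵥ y) := fun g hg pg x y => by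
    have hinv : g⁻¹ = -g := inv_eq_of_mul_eq_one_right (by rw [mul_neg, hg, neg_neg])
    rw [pres_adjoint pg, hinv, Units.val_neg]
  intro x y
  obtain ⟨S, hS⟩ : ∃ S, S = (1 : Matrix ι ι F) + j + k + (j : Matrix ι ι F) * k := ⟨_, rfl⟩
  obtain ⟨S', hS'⟩ : ∃ S', S' = (1 : Matrix ι ι F) - j - k - (j : Matrix ι ι F) * k := ⟨_, rfl⟩
  have hadj : ∀ x y, h (S *ᵥ x) y = h x (S' *ᵥ y) := fun x y => by
    have hjk' : h (((j : Matrix ι ι F) * (k : Matrix ι ι F)) *ᵥ x) y =
        h x ((-((j : Matrix ι ι F) * (k : Matrix ι ι F))) *ᵥ y) := by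
      have hkj : (k : Matrix ι ι F) * j = -((j : Matrix ι ι F) * k) := by rw [val_eq hjk, neg_neg]
      rw [← mulVec_mulVec, hneg j hj pj, hneg k hk pk, mulVec_mulVec, neg_mul_neg, hkj]
    simp only [hS, hS', sub_eq_add_neg, add_mulVec, one_mulVec, hh.addL, hh.addR, hneg j hj pj, hneg k hk pk, hjk']
  have hSS : S' * S = (4 : F) • 1 := by
    have hJ := val_sq hj
    have hK := val_sq hk
    have hKJ : (k : Matrix ι ι F) * j = -((j : Matrix ι ι F) * k) := by rw [val_eq hjk, neg_neg]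
    have e1 : (k : Matrix ι ι F) * ((j : Matrix ι ι F) * k) = j := by
      rw [← mul_assoc, hKJ, neg_mul, mul_assoc, hK, mul_neg, mul_one, neg_neg]
    have e2 : (j : Matrix ι ι F) * k * j = k := by
      rw [mul_assoc, hKJ, mul_neg, ← mul_assoc, hJ, neg_mul, one_mul, neg_neg]
    have e3 : (j : Matrix ι ι F) * ((j : Matrix ι ι F) * k) = -(k : Matrix ι ι F) := by
      rw [← mul_assoc, hJ, neg_mul, one_mul]
    have e4 : (j : Matrix ι ι F) * k * k = -(j : Matrix ι ι F) := by rw [mul_assoc, hK, mul_neg, mul_one]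
    have e5 : (j : Matrix ι ι F) * k * ((j : Matrix ι ι F) * k) = -1 := by rw [← mul_assoc, e2, hK]
    rw [hS, hS']
    simp only [mul_add, sub_mul, one_mul, mul_one, hJ, hK, hKJ, e1, e2, e3, e4, e5]
    module
  rw [hw, ← hS, smul_mulVec, smul_mulVec, hh.smulL, hh.smulR, hadj, mulVec_mulVec, hSS, smul_mulVec, one_mulVec,
    hh.smulR, map_neg, map_inv₀, map_ofNat, map_ofNat]
  field_simp
  ring

/-- Three anticommuting involutions are permuted cyclically. -/
theorem quat_cycle (h2 : (2 : F) ≠ 0) {u v x w : GL ι F} (hu : u * u = 1) (hv : v * v = 1) (hx : x * x = 1)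
    (huv : u * v = -(v * u)) (hux : u * x = -(x * u)) (hvx : v * x = -(x * v))
    (hw : (w : Matrix ι ι F) =
      (-(2 : F)⁻¹) • (1 + ((-(u * v) : GL ι F) : Matrix ι ι F) + ((-(v * x) : GL ι F) : Matrix ι ι F) +
        ((-(u * v) : GL ι F) : Matrix ι ι F) * ((-(v * x) : GL ι F) : Matrix ι ι F))) :
    w * u = v * w ∧ w * v = x * w ∧ w * x = u * w ∧
      ∀ z : GL ι F, z * u = -(u * z) → z * v = -(v * z) → z * x = -(x * z) → w * z = z * w := by
  have hprod : (-(u * v)) * (-(v * x)) = u * x := by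
    rw [neg_mul_neg, mul_assoc u v, ← mul_assoc v v x, hv, one_mul]
  obtain ⟨U, hU⟩ : ∃ U, U = (u : Matrix ι ι F) := ⟨_, rfl⟩
  obtain ⟨V, hV⟩ : ∃ V, V = (v : Matrix ι ι F) := ⟨_, rfl⟩
  obtain ⟨X, hX⟩ : ∃ X, X = (x : Matrix ι ι F) := ⟨_, rfl⟩
  have hW : (w : Matrix ι ι F) = (2 : F)⁻¹ • (-1 + U * V + V * X + X * U) := by
    rw [hw, ← Units.val_mul (-(u * v)), hprod, Units.val_neg, Units.val_neg, Units.val_mul, Units.val_mul,
      Units.val_mul, ← hU, ← hV, ← hX, show U * X = -(X * U) from hU ▸ hX ▸ val_eq hux]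
    module
  have cyc : ∀ U V X : Matrix ι ι F, U * U = 1 → V * V = 1 → V * U = -(U * V) → X * U = -(U * X) →
      X * V = -(V * X) → (-1 + U * V + V * X + X * U) * U = V * (-1 + U * V + V * X + X * U) := by
    intro U V X hU hV hVU hXU hXV
    have e1 : U * V * U = -V := by rw [mul_assoc, hVU, mul_neg, ← mul_assoc, hU, one_mul]
    have e2 : V * X * U = V * (X * U) := mul_assoc _ _ _
    have e3 : X * U * U = X := by rw [mul_assoc, hU, mul_one]
    have e4 : V * (U * V) = -U := by rw [← mul_assoc, hVU, neg_mul, mul_assoc, hV, mul_one]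
    have e5 : V * (V * X) = X := by rw [← mul_assoc, hV, one_mul]
    simp only [add_mul, mul_add, neg_mul, mul_neg, one_mul, mul_one, e1, e2, e3, e4, e5]
    abel
  have hVU : V * U = -(U * V) := by rw [hU, hV, val_eq huv, neg_neg]
  have hXU : X * U = -(U * X) := by rw [hU, hX, val_eq hux, neg_neg]
  have hXV : X * V = -(V * X) := by rw [hV, hX, val_eq hvx, neg_neg]
  have hU2 : U * U = 1 := hU ▸ val_sq_one hu
  have hV2 : V * V = 1 := hV ▸ val_sq_one hv
  have hX2 : X * X = 1 := hX ▸ val_sq_one hx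
  refine ⟨Units.ext ?_, Units.ext ?_, Units.ext ?_, fun z h1 h2' h3 => (quat_comm hw ?_ ?_).symm⟩
  · rw [Units.val_mul, Units.val_mul, hW, ← hU, ← hV, smul_mul_assoc, mul_smul_comm, cyc U V X hU2 hV2 hVU hXU hXV]
  · rw [Units.val_mul, Units.val_mul, hW, ← hV, ← hX, smul_mul_assoc, mul_smul_comm,
      show -1 + U * V + V * X + X * U = -1 + V * X + X * U + U * V by abel,
      cyc V X U hV2 hX2 hXV (by rw [hVU, neg_neg]) (by rw [hXU, neg_neg])]
  · rw [Units.val_mul, Units.val_mul, hW, ← hX, ← hU, smul_mul_assoc, mul_smul_comm,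
      show -1 + U * V + V * X + X * U = -1 + X * U + U * V + V * X by abel,
      cyc X U V hX2 hU2 (by rw [hXU, neg_neg]) (by rw [hXV, neg_neg]) hVU]
  · rw [mul_neg, neg_mul, ← mul_assoc, h1, neg_mul, mul_assoc, h2', mul_neg, neg_neg, ← mul_assoc]
  · rw [mul_neg, neg_mul, ← mul_assoc, h2', neg_mul, mul_assoc, h3, mul_neg, neg_neg, ← mul_assoc]

/-- The element of order three normalises `R`. -/
theorem quat_normal (hS : Setting R) {j k w : GL ι F} (hj : j ∈ R) (hk : k ∈ R) (hjk : j * k = -(k * j))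
    (hw : (w : Matrix ι ι F) = (-(2 : F)⁻¹) • (1 + (j : Matrix ι ι F) + k + (j : Matrix ι ι F) * k))
    (hwj : w * j = k * w) (hwk : w * k = j * k * w) : w ∈ Cfsg.Geo.subgroupNormalizer R := by
  refine normalizer_of_le fun r hr => ?_
  have hkj : k * j = -(j * k) := by rw [hjk, neg_neg]
  obtain ⟨a, c, ha, haw, hcR, hcj, hck, hrac⟩ : ∃ a c, a ∈ R ∧ w * a * w⁻¹ ∈ R ∧ c ∈ R ∧ c * j = j * c ∧
      c * k = k * c ∧ r = a * c := by
    have kR : w * k * w⁻¹ ∈ R := by rw [hwk, mul_inv_cancel_right]; exact mul_mem hj hk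
    have jR : w * j * w⁻¹ ∈ R := by rw [hwj, mul_inv_cancel_right]; exact hk
    have jkR : w * (j * k) * w⁻¹ ∈ R := by
      rw [show w * (j * k) * w⁻¹ = w * j * w⁻¹ * (w * k * w⁻¹) by group]
      exact mul_mem jR kR
    have flip : ∀ g r : GL ι F, ∀ t, g * t = -(t * g) → r * t = -(t * r) → g⁻¹ * r * t = t * (g⁻¹ * r) := fun g r t e e' => by
      have h1 : g⁻¹ * t = -(t * g⁻¹) := by
        rw [inv_mul_eq_iff_eq_mul, mul_neg, ← mul_assoc, e, neg_mul, neg_neg, mul_inv_cancel_right]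
      rw [mul_assoc, e', mul_neg, ← mul_assoc, h1, neg_mul, neg_neg, mul_assoc]
    have keep : ∀ g r : GL ι F, ∀ t, g * t = t * g → r * t = t * r → g⁻¹ * r * t = t * (g⁻¹ * r) := fun g r t e e' =>
      ((Commute.inv_left e).mul_left e').eq
    rcases hS.comm r hr j hj with h | h <;> rcases hS.comm r hr k hk with h' | h'
    · exact ⟨1, r, one_mem _, by simp, hr, h, h', (one_mul r).symm⟩
    · exact ⟨j, j⁻¹ * r, hj, jR, mul_mem (inv_mem hj) hr, keep j r j rfl h, flip j r k hjk h',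
        (mul_inv_cancel_left j r).symm⟩
    · exact ⟨k, k⁻¹ * r, hk, kR, mul_mem (inv_mem hk) hr, flip k r j hkj h, keep k r k rfl h',
        (mul_inv_cancel_left k r).symm⟩
    · refine ⟨j * k, (j * k)⁻¹ * r, mul_mem hj hk, jkR, mul_mem (inv_mem (mul_mem hj hk)) hr,
        flip _ r j ?_ h, flip _ r k ?_ h', (mul_inv_cancel_left _ r).symm⟩
      · rw [mul_assoc, hkj, mul_neg]
      · rw [← mul_assoc k j k, hkj, neg_mul, neg_neg]
  rw [hrac, show w * (a * c) * w⁻¹ = w * a * w⁻¹ * (w * c * w⁻¹) by group,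
    ← quat_comm hw hcj hck, mul_inv_cancel_right]
  exact mul_mem haw hcR

omit [Fintype F] in
/-- The determinant of an element of order three with an inverting conjugate is one. -/
theorem det_eq_one_of_inverted {w g : GL ι F} (h3 : w ^ 3 = 1) (hg : g * w = w⁻¹ * g) :
    (w : Matrix ι ι F).det = 1 := by
  have e1 : (w : Matrix ι ι F).det ^ 3 = 1 := by
    rw [← Matrix.det_pow, ← Units.val_pow_eq_pow_val, h3, Units.val_one, Matrix.det_one]
  have e2 := congrArg (fun t : GL ι F => (t : Matrix ι ι F).det) hg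
  simp only [Units.val_mul, Matrix.det_mul] at e2
  have hgd : (g : Matrix ι ι F).det ≠ 0 := (Matrix.isUnit_iff_isUnit_det _).1 g.isUnit |>.ne_zero
  have hwi : ((w⁻¹ : GL ι F) : Matrix ι ι F).det * (w : Matrix ι ι F).det = 1 := by
    rw [← Matrix.det_mul, ← Units.val_mul, inv_mul_cancel, Units.val_one, Matrix.det_one]
  have e3 : (w : Matrix ι ι F).det = ((w⁻¹ : GL ι F) : Matrix ι ι F).det :=
    mul_left_cancel₀ hgd (e2.trans (mul_comm _ _))
  rw [← e3] at hwi
  linear_combination e1 - (w : Matrix ι ι F).det * hwi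

omit [Fintype F] in
/-- Reversing three anticommuting involutions inverts the element of order three. -/
theorem quat_inverted (h2 : (2 : F) ≠ 0) {j k w g : GL ι F}
    (hw : (w : Matrix ι ι F) = (-(2 : F)⁻¹) • (1 + (j : Matrix ι ι F) + k + (j : Matrix ι ι F) * k))
    (hj : j * j = -1) (hk : k * k = -1) (hjk : j * k = -(k * j)) (hgj : g * j = -(k * g)) (hgk : g * k = -(j * g)) :
    g * w = w⁻¹ * g := by
  obtain ⟨w', hw', hq, h3, -, -⟩ := exists_quat h2 hj hk hjk
  have hww : w = w' := Units.ext (hw.trans hw'.symm)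
  subst hww
  have hinv : w⁻¹ = w * w := inv_eq_of_mul_eq_one_right (by rw [← mul_assoc, ← pow_two, ← pow_succ]; exact h3)
  refine Units.ext ?_
  have hW2 : (w : Matrix ι ι F) * w = -(w : Matrix ι ι F) - 1 := by
    rw [eq_sub_iff_add_eq, eq_neg_iff_add_eq_zero, add_right_comm]; exact hq
  have e1 : (g : Matrix ι ι F) * j = -((k : Matrix ι ι F) * g) := by
    rw [← Units.val_mul, hgj, Units.val_neg, Units.val_mul]
  have e2 : (g : Matrix ι ι F) * k = -((j : Matrix ι ι F) * g) := by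
    rw [← Units.val_mul, hgk, Units.val_neg, Units.val_mul]
  have e3 : (g : Matrix ι ι F) * ((j : Matrix ι ι F) * k) = -((j : Matrix ι ι F) * k * g) := by
    rw [← mul_assoc, e1, neg_mul, mul_assoc, e2, mul_neg, neg_neg, ← mul_assoc,
      show (k : Matrix ι ι F) * j = -((j : Matrix ι ι F) * k) by rw [val_eq hjk, neg_neg], neg_mul]
  rw [Units.val_mul, Units.val_mul, hinv, Units.val_mul, hW2, hw, mul_smul_comm, mul_add, mul_add, mul_add, mul_one,
    e1, e2, e3, sub_mul, neg_mul, smul_mul_assoc, add_mul, add_mul, add_mul, one_mul]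
  match_scalars <;> field_simp <;> ring

open Fin.NatCast in
/-- An element of order five. -/
theorem exists_five [Nonempty ι] (h2 : (2 : F) ≠ 0) (hι : Fintype.card ι = 4) (hS : Setting R) {e : Fin 5 → GL ι F}
    (hF : Frame R e) {σ : F →+* F} {h : (ι → F) → (ι → F) → F} (hh : Sesq σ h) (hp : ∀ a ∈ R, Pres h a) :
    ∃ v : GL ι F, v ∈ Cfsg.Geo.subgroupNormalizer R ∧ Pres h v ∧ (v : Matrix ι ι F).det = 1 ∧ v ^ 5 = 1 ∧
      ∀ c : F, (v : Matrix ι ι F) ≠ c • 1 := by
  have htri : ∀ i j l : Fin 5, i ≠ j → i ≠ l → j ≠ l → ∃ w : GL ι F, w ∈ Cfsg.Geo.subgroupNormalizer R ∧ Pres h w ∧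
      (w : Matrix ι ι F).det = 1 ∧ w * e i = e j * w ∧ w * e j = e l * w ∧ w * e l = e i * w ∧
      ∀ m, m ≠ i → m ≠ j → m ≠ l → w * e m = e m * w := by
    intro i j l hij hil hjl
    obtain ⟨a, ha⟩ : ∃ a, a = -(e i * e j) := ⟨_, rfl⟩
    obtain ⟨b, hb⟩ : ∃ b, b = -(e j * e l) := ⟨_, rfl⟩
    have haR : a ∈ R := by rw [ha, ← neg_one_mul]; exact mul_mem hS.neg (mul_mem (hF.mem i) (hF.mem j))
    have hbR : b ∈ R := by rw [hb, ← neg_one_mul]; exact mul_mem hS.neg (mul_mem (hF.mem j) (hF.mem l))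
    have ha2 : a * a = -1 := by
      rw [ha, neg_mul_neg, sq_mul_anti (hF.anti i j hij), hF.sq, hF.sq, one_mul]
    have hb2 : b * b = -1 := by
      rw [hb, neg_mul_neg, sq_mul_anti (hF.anti j l hjl), hF.sq, hF.sq, one_mul]
    have hab : a * b = -(b * a) := by
      rw [ha, hb, neg_mul_neg, neg_mul_neg, mul_assoc (e i) (e j), ← mul_assoc (e j) (e j), hF.sq, one_mul,
        mul_assoc (e j) (e l), hF.anti i j hij, mul_neg, ← mul_assoc (e l) (e j) (e i), hF.anti l j hjl.symm, neg_mul,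
        neg_neg, ← mul_assoc, ← mul_assoc, hF.sq, one_mul, hF.anti i l hil]
    obtain ⟨w, hw, -, h3, hwa, hwb⟩ := exists_quat h2 ha2 hb2 hab
    obtain ⟨c1, c2, c3, c4⟩ := quat_cycle h2 (hF.sq i) (hF.sq j) (hF.sq l) (hF.anti i j hij) (hF.anti i l hil)
      (hF.anti j l hjl) (by rw [← ha, ← hb]; exact hw)
    refine ⟨w, quat_normal hS haR hbR hab hw hwa hwb, quat_pres h2 hh ha2 hb2 hab (hp a haR) (hp b hbR) hw, ?_,
      c1, c2, c3, fun m h1 h1' h1'' => c4 _ (hF.anti m i h1) (hF.anti m j h1') (hF.anti m l h1'')⟩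
    -- the difference of two of the involutions inverts
    obtain ⟨g, hg⟩ : ∃ g : GL ι F, (g : Matrix ι ι F) = (e i : Matrix ι ι F) - e l := by
      have e1 : ((e i : Matrix ι ι F) - e l) * ((e i : Matrix ι ι F) - e l) = (2 : F) • 1 := by
        rw [sub_mul, mul_sub, mul_sub, val_sq_one (hF.sq i), val_sq_one (hF.sq l), val_eq (hF.anti i l hil)]
        module
      exact ⟨⟨_, (2 : F)⁻¹ • ((e i : Matrix ι ι F) - e l), by
        rw [mul_smul_comm, e1, smul_smul, inv_mul_cancel₀ h2, one_smul], by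
        rw [smul_mul_assoc, e1, smul_smul, inv_mul_cancel₀ h2, one_smul]⟩, rfl⟩
    have gj : (g : Matrix ι ι F) * e j = -((e j : Matrix ι ι F) * g) := by
      rw [hg, sub_mul, mul_sub, val_eq (hF.anti i j hij), val_eq (hF.anti l j hjl.symm)]
      abel
    have gi : (g : Matrix ι ι F) * e i = -((e l : Matrix ι ι F) * g) := by
      rw [hg, sub_mul, mul_sub, val_sq_one (hF.sq i), val_sq_one (hF.sq l)]
      abel
    have gl : (g : Matrix ι ι F) * e l = -((e i : Matrix ι ι F) * g) := by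
      rw [hg, sub_mul, mul_sub, val_sq_one (hF.sq i), val_sq_one (hF.sq l)]
      abel
    refine det_eq_one_of_inverted (g := g) h3 (quat_inverted (g := g) h2 hw ha2 hb2 hab (Units.ext ?_) (Units.ext ?_))
    · rw [ha, hb, Units.val_mul, Units.val_neg, Units.val_mul, Units.val_neg, Units.val_mul, Units.val_neg,
        Units.val_mul, mul_neg, ← mul_assoc, gi, neg_mul, mul_assoc, gj, mul_neg, neg_neg, neg_mul, neg_neg,
        ← mul_assoc, val_eq (hF.anti l j hjl.symm), neg_mul, neg_neg]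
    · rw [ha, hb, Units.val_mul, Units.val_neg, Units.val_mul, Units.val_neg, Units.val_mul, Units.val_neg,
        Units.val_mul, mul_neg, ← mul_assoc, gj, neg_mul, mul_assoc, gl, mul_neg, neg_neg, neg_mul, neg_neg,
        ← mul_assoc, val_eq (hF.anti j i hij.symm), neg_mul, neg_neg]
  obtain ⟨w1, w1N, w1p, w1d, a0, a1, a2, a3⟩ := htri 0 1 2 (by decide) (by decide) (by decide)
  obtain ⟨w2, w2N, w2p, w2d, b2, b3, b4, b5⟩ := htri 2 3 4 (by decide) (by decide) (by decide)
  obtain ⟨u, hu⟩ : ∃ u, u = w1 * w2 := ⟨_, rfl⟩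
  have hcyc : ∀ m : Fin 5, u * e m = e (m + 1) * u := by
    intro m
    fin_cases m
    · show u * e 0 = e 1 * u
      rw [hu, mul_assoc, b5 0 (by decide) (by decide) (by decide), ← mul_assoc, a0, mul_assoc]
    · show u * e 1 = e 2 * u
      rw [hu, mul_assoc, b5 1 (by decide) (by decide) (by decide), ← mul_assoc, a1, mul_assoc]
    · show u * e 2 = e 3 * u
      rw [hu, mul_assoc, b2, ← mul_assoc, a3 3 (by decide) (by decide) (by decide), mul_assoc]
    · show u * e 3 = e 4 * u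
      rw [hu, mul_assoc, b3, ← mul_assoc, a3 4 (by decide) (by decide) (by decide), mul_assoc]
    · show u * e 4 = e 0 * u
      rw [hu, mul_assoc, b4, ← mul_assoc, a2, mul_assoc]
  have hpow : ∀ (n : ℕ) (m : Fin 5), u ^ n * e m = e (m + (n : Fin 5)) * u ^ n := fun n => by
    induction n with
    | zero => intro m; simp
    | succ n ih =>
      intro m
      rw [pow_succ', mul_assoc, ih, ← mul_assoc, hcyc, mul_assoc, Nat.cast_succ, add_assoc]
  obtain ⟨c, -, hc⟩ := scalar_of_commute hS.irr (x := u ^ 5) fun r hr => hF.gen r hr _ fun m => by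
    rw [hpow 5 m, show ((5 : ℕ) : Fin 5) = 0 from rfl, add_zero]
  have hud : (u : Matrix ι ι F).det = 1 := by rw [hu, Units.val_mul, Matrix.det_mul, w1d, w2d, one_mul]
  have hc4 : c ^ 4 = 1 := by
    have h1 := congrArg Matrix.det hc
    rw [Units.val_pow_eq_pow_val, Matrix.det_pow, hud, one_pow, Matrix.det_smul, Matrix.det_one, hι, mul_one] at h1
    exact h1.symm
  refine ⟨u ^ 4, pow_mem (hu ▸ mul_mem w1N w2N) 4, pres_pow (hu ▸ pres_mul w1p w2p) 4, ?_, ?_, fun t ht => ?_⟩
  · rw [Units.val_pow_eq_pow_val, Matrix.det_pow, hud, one_pow]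
  · refine Units.ext ?_
    rw [← pow_mul, show 4 * 5 = 5 * 4 from rfl, pow_mul, Units.val_pow_eq_pow_val, hc, smul_pow, one_pow, hc4,
      one_smul, Units.val_one]
  · have h1 := hpow 4 0
    rw [scalar_comm ht, show (0 : Fin 5) + ((4 : ℕ) : Fin 5) = 4 from rfl] at h1
    have h4 := hF.anti 0 4 (by decide)
    rw [mul_right_cancel h1, hF.sq] at h4
    exact neg_one_ne h2 h4.symm

omit [Fintype F] in
/-- A reflection from two commuting involutions. -/
theorem reflection_facts (h2 : (2 : F) ≠ 0) {A B : GL ι F} (hA : A * A = 1) (hB : B * B = 1) (hAB : A * B = B * A) :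
    ∃ s : GL ι F, (s : Matrix ι ι F) = (2 : F)⁻¹ • (1 - (A : Matrix ι ι F) - B - (A : Matrix ι ι F) * B) ∧ s * s = 1 ∧
      (∀ {σ : F →+* F} {h : (ι → F) → (ι → F) → F}, Sesq σ h → Pres h A → Pres h B → Pres h s) ∧
      (∀ r : GL ι F, (r * A = A * r → r * B = B * r → s * r = r * s) ∧
        (r * A = -(A * r) → r * B = B * r → s * r = r * (-B) * s) ∧
        (r * A = A * r → r * B = -(B * r) → s * r = r * (-A) * s) ∧
        (r * A = -(A * r) → r * B = -(B * r) → s * r = r * (-(A * B)) * s)) := by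
  have hA' := val_sq_one hA
  have hB' := val_sq_one hB
  have hBA : (B : Matrix ι ι F) * A = (A : Matrix ι ι F) * B := by rw [← Units.val_mul, ← hAB, Units.val_mul]
  obtain ⟨a, hda⟩ : ∃ a, a = (A : Matrix ι ι F) := ⟨_, rfl⟩
  obtain ⟨b, hdb⟩ : ∃ b, b = (B : Matrix ι ι F) := ⟨_, rfl⟩
  rw [← hda, ← hdb] at hBA ⊢
  rw [← hda] at hA'
  rw [← hdb] at hB'
  obtain ⟨S, hS⟩ : ∃ S, S = 1 - a - b - a * b := ⟨_, rfl⟩
  rw [← hS]
  have e1 : a * (a * b) = b := by rw [← mul_assoc, hA', one_mul]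
  have e2 : a * b * b = a := by rw [mul_assoc, hB', mul_one]
  have e3 : a * b * a = b := by rw [mul_assoc, hBA, e1]
  have e4 : b * (a * b) = a := by rw [← mul_assoc, hBA, e2]
  have e5 : a * b * (a * b) = 1 := by rw [← mul_assoc, e3, hB']
  have hSS : S * S = (4 : F) • 1 := by
    rw [hS]
    simp only [mul_sub, sub_mul, one_mul, mul_one, hA', hB', hBA, e1, e2, e3, e4, e5]
    module
  have hss : ((2 : F)⁻¹ • S) * ((2 : F)⁻¹ • S) = 1 := by
    rw [smul_mul_smul_comm, hSS, smul_smul, show (2 : F)⁻¹ * 2⁻¹ * 4 = 1 by field_simp; ring, one_smul]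
  obtain ⟨s, hs⟩ : ∃ s : GL ι F, (s : Matrix ι ι F) = (2 : F)⁻¹ • S := ⟨⟨_, _, hss, hss⟩, rfl⟩
  refine ⟨s, hs, Units.ext (by rw [Units.val_mul, hs, hss, Units.val_one]), fun {σ h} hh pA pB x y => ?_, fun r => ?_⟩
  · have self : ∀ g : GL ι F, g * g = 1 → Pres h g → ∀ x y, h ((g : Matrix ι ι F) *ᵥ x) y = h x ((g : Matrix ι ι F) *ᵥ y) :=
      fun g hg pg x y => by rw [pres_adjoint pg, inv_eq_of_mul_eq_one_right hg]
    have selfA := self A hA pA
    have selfB := self B hB pB
    rw [← hda] at selfA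
    rw [← hdb] at selfB
    have hadj : h (S *ᵥ x) (S *ᵥ y) = h x (S *ᵥ (S *ᵥ y)) := by
      obtain ⟨z, hz⟩ : ∃ z, z = S *ᵥ y := ⟨_, rfl⟩
      rw [← hz]
      have hab' : h ((a * b) *ᵥ x) z = h x ((a * b) *ᵥ z) := by
        rw [← mulVec_mulVec, selfA, selfB, mulVec_mulVec, hBA]
      have hsub : ∀ p q w, h (p - q) w = h p w - h q w := fun p q w => by
        rw [eq_sub_iff_add_eq, ← hh.addL, sub_add_cancel]
      have hsub' : ∀ w p q, h w (p - q) = h w p - h w q := fun w p q => by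
        rw [eq_sub_iff_add_eq, ← hh.addR, sub_add_cancel]
      simp only [hS, sub_mulVec, one_mulVec, hsub, hsub', selfA, selfB, hab']
    rw [hs, smul_mulVec, smul_mulVec, hh.smulL, hh.smulR, hadj, mulVec_mulVec, hSS, smul_mulVec, one_mulVec, hh.smulR,
      map_inv₀, map_ofNat, map_ofNat]
    field_simp
    ring
  · obtain ⟨q, hq⟩ : ∃ q, q = (r : Matrix ι ι F) := ⟨_, rfl⟩
    have val0 : ∀ T : GL ι F, r * T = T * r → (T : Matrix ι ι F) * q = q * T := fun T h => by
      rw [hq, ← Units.val_mul, ← h, Units.val_mul]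
    have val1 : ∀ T : GL ι F, r * T = -(T * r) → (T : Matrix ι ι F) * q = -(q * T) := fun T h => by
      rw [hq, ← Units.val_mul, ← Units.val_mul, h, Units.val_neg, neg_neg]
    refine ⟨fun h h' => Units.ext ?_, fun h h' => Units.ext ?_, fun h h' => Units.ext ?_, fun h h' => Units.ext ?_⟩
    · have ha := val0 A h
      have hb := val0 B h'
      rw [← hda] at ha
      rw [← hdb] at hb
      have hab : a * b * q = q * (a * b) := by rw [mul_assoc, hb, ← mul_assoc, ha, mul_assoc]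
      rw [Units.val_mul, Units.val_mul, hs, ← hq, smul_mul_assoc, mul_smul_comm, hS]
      congr 1
      simp only [sub_mul, mul_sub, one_mul, mul_one, ha, hb, hab]
    · have ha := val1 A h
      have hb := val0 B h'
      rw [← hda] at ha
      rw [← hdb] at hb
      have hab : a * b * q = -(q * (a * b)) := by rw [mul_assoc, hb, ← mul_assoc, ha, neg_mul, mul_assoc]
      rw [Units.val_mul, Units.val_mul, Units.val_mul, Units.val_neg, hs, ← hq, ← hdb, smul_mul_assoc, mul_smul_comm,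
        mul_assoc q, hS]
      congr 1
      simp only [sub_mul, mul_sub, neg_mul, mul_neg, one_mul, mul_one, ha, hb, hab, hB', hBA, e4]
      abel
    · have ha := val0 A h
      have hb := val1 B h'
      rw [← hda] at ha
      rw [← hdb] at hb
      have hab : a * b * q = -(q * (a * b)) := by rw [mul_assoc, hb, mul_neg, ← mul_assoc, ha, mul_assoc]
      rw [Units.val_mul, Units.val_mul, Units.val_mul, Units.val_neg, hs, ← hq, ← hda, smul_mul_assoc, mul_smul_comm,
        mul_assoc q, hS]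
      congr 1
      simp only [sub_mul, mul_sub, neg_mul, mul_neg, one_mul, mul_one, ha, hb, hab, hA', e1]
      abel
    · have ha := val1 A h
      have hb := val1 B h'
      rw [← hda] at ha
      rw [← hdb] at hb
      have hab : a * b * q = q * (a * b) := by
        rw [mul_assoc, hb, mul_neg, ← mul_assoc, ha, neg_mul, neg_neg, mul_assoc]
      rw [Units.val_mul, Units.val_mul, Units.val_mul, Units.val_neg, Units.val_mul, hs, ← hq, ← hda, ← hdb,
        smul_mul_assoc, mul_smul_comm, mul_assoc q, hS]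
      congr 1
      simp only [sub_mul, mul_sub, neg_mul, mul_neg, one_mul, mul_one, ha, hb, hab, e2, e3, e5]
      abel

/-- The reflection normalises `R`. -/
theorem reflection_normal (hS : Setting R) {A B s : GL ι F} (hA : A ∈ R) (hB : B ∈ R)
    (hs : ∀ r : GL ι F, (r * A = A * r → r * B = B * r → s * r = r * s) ∧
      (r * A = -(A * r) → r * B = B * r → s * r = r * (-B) * s) ∧
      (r * A = A * r → r * B = -(B * r) → s * r = r * (-A) * s) ∧
      (r * A = -(A * r) → r * B = -(B * r) → s * r = r * (-(A * B)) * s)) :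
    s ∈ Cfsg.Geo.subgroupNormalizer R := by
  refine normalizer_of_le fun r hr => ?_
  have neg : ∀ x ∈ R, -x ∈ R := fun x hx => by rw [← neg_one_mul]; exact mul_mem hS.neg hx
  obtain ⟨h1, h2, h3, h4⟩ := hs r
  rcases hS.comm r hr A hA with h | h <;> rcases hS.comm r hr B hB with h' | h'
  · rw [h1 h h', mul_inv_cancel_right]; exact hr
  · rw [h3 h h', mul_inv_cancel_right]; exact mul_mem hr (neg A hA)
  · rw [h2 h h', mul_inv_cancel_right]; exact mul_mem hr (neg B hB)
  · rw [h4 h h', mul_inv_cancel_right]; exact mul_mem hr (neg _ (mul_mem hA hB))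

end CfsgLib.Classical22.SympTypeFour
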