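/-
Conjugacy of semisimple elements by the dimensions of their primary kernels.
-/
import Cfsg.Agent.Lib.Classical22.SympTypeFour.Normal
import Cfsg.Agent.Lib.Classical.PrimaryDecomp
import Cfsg.Agent.Lib.Classical.UnitaryConjugacy

set_option autoImplicit false

namespace CfsgLib.Classical22.SympTypeFour

open Matrix Polynomial

universe u

variable {ι : Type} [Fintype ι] [DecidableEq ι] {F : Type u} [Field F]

/-- The dimension of the kernel of `Q` at `x`. -/
noncomputable def kdim (x : Matrix ι ι F) (Q : F[X]) : ℕ :=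
  Module.finrank F (LinearMap.ker (Matrix.toLin' (aeval x Q)))

theorem aeval_toLin (x : Matrix ι ι F) (Q : F[X]) :
    aeval (Matrix.toLin' x : Module.End F (ι → F)) Q = Matrix.toLin' (aeval x Q) :=
  aeval_algHom_apply (Matrix.toLinAlgEquiv' : Matrix ι ι F ≃ₐ[F] _).toAlgHom x Q

theorem kdim_eq_card {x : Matrix ι ι F} {Q : F[X]} [Finite F] :
    Nat.card {v : ι → F // aeval x Q *ᵥ v = 0} = Nat.card F ^ kdim x Q := by
  rw [kdim, ← Module.natCard_eq_pow_finrank]
  exact Nat.card_congr (Equiv.subtypeEquivRight fun v => by rw [LinearMap.mem_ker, Matrix.toLin'_apply])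

theorem kdim_of_zero {x : Matrix ι ι F} {Q : F[X]} (h : aeval x Q = 0) : kdim x Q = Fintype.card ι := by
  rw [kdim, h, map_zero, LinearMap.ker_zero, finrank_top, Module.finrank_pi]

theorem zero_of_kdim {x : Matrix ι ι F} {Q : F[X]} (h : kdim x Q = Fintype.card ι) : aeval x Q = 0 := by
  have h1 := Submodule.eq_top_of_finrank_eq (h.trans (Module.finrank_pi F).symm)
  rw [LinearMap.ker_eq_top] at h1
  exact (Matrix.toLin'.map_eq_zero_iff).1 h1

theorem kdim_pos {x : Matrix ι ι F} {Q : F[X]} {v : ι → F} (hv : v ≠ 0) (h : aeval x Q *ᵥ v = 0) :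
    0 < kdim x Q := by
  rw [kdim, Nat.pos_iff_ne_zero, Ne, Submodule.finrank_eq_zero, ← Ne, Submodule.ne_bot_iff]
  exact ⟨v, by rw [LinearMap.mem_ker, Matrix.toLin'_apply, h], hv⟩

theorem kdim_eq_of_mul {x : Matrix ι ι F} {Q Q' : F[X]} {u : Matrix ι ι F} (hu : IsUnit u)
    (h : aeval x Q = u * aeval x Q') : kdim x Q = kdim x Q' := by
  have hb : LinearMap.ker (Matrix.toLin' u) = ⊥ := LinearMap.ker_eq_bot.2 fun a b hab => by
    simp only [Matrix.toLin'_apply] at hab
    exact Matrix.mulVec_injective_iff_isUnit.2 hu hab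
  rw [kdim, h, Matrix.toLin'_mul, LinearMap.ker_comp, hb]
  rfl

section

variable {J : Type} [Fintype J] [DecidableEq J] (P : J → F[X]) [hP : ∀ j, Fact (Irreducible (P j))]
  (hco : Pairwise (Function.onFun IsCoprime P))

include hP hco

/-- The kernels fill the space. -/
theorem kdim_sum {x : Matrix ι ι F} (hx : aeval x (∏ j, P j) = 0) : ∑ j, kdim x (P j) = Fintype.card ι := by
  have h := CfsgLib.Classical.Primary.finrank_sum P hco (Matrix.toLin' x) (by rw [aeval_toLin, hx, map_zero])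
  rw [Module.finrank_pi] at h
  exact (Finset.sum_congr rfl fun j _ => by rw [kdim, ← aeval_toLin]).trans h

/-- Equal dimensions give conjugacy. -/
theorem conj_of_kdim {x y : GL ι F} (hx : aeval (x : Matrix ι ι F) (∏ j, P j) = 0)
    (hy : aeval (y : Matrix ι ι F) (∏ j, P j) = 0)
    (h : ∀ j, kdim (x : Matrix ι ι F) (P j) = kdim (y : Matrix ι ι F) (P j)) :
    ∃ g : GL ι F, g * x = y * g := by
  obtain ⟨e, he⟩ := CfsgLib.Classical.Primary.similar_of_finrank P hco (Matrix.toLin' (x : Matrix ι ι F))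
    (Matrix.toLin' (y : Matrix ι ι F)) (by rw [aeval_toLin, hx, map_zero]) (by rw [aeval_toLin, hy, map_zero])
    (fun j => by rw [aeval_toLin, aeval_toLin]; exact h j)
  obtain ⟨g, hg⟩ : ∃ g : GL ι F, ∀ v, (g : Matrix ι ι F) *ᵥ v = e v := by
    refine ⟨⟨LinearMap.toMatrix' e.toLinearMap, LinearMap.toMatrix' e.symm.toLinearMap, ?_, ?_⟩, fun v => ?_⟩
    · rw [← LinearMap.toMatrix'_comp, LinearEquiv.comp_coe, LinearEquiv.symm_trans_self]
      exact LinearMap.toMatrix'_id
    · rw [← LinearMap.toMatrix'_comp, LinearEquiv.comp_coe, LinearEquiv.self_trans_symm]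
      exact LinearMap.toMatrix'_id
    · exact LinearMap.toMatrix'_mulVec _ _
  refine ⟨g, Units.ext ((Matrix.toLin').injective (LinearMap.ext fun v => ?_))⟩
  have h1 := he v
  simp only [Matrix.toLin'_apply] at h1 ⊢
  rw [Units.val_mul, Units.val_mul, ← mulVec_mulVec, ← mulVec_mulVec, hg, hg, h1]

end

/-- An anticommuting element halves the fixed space of an involution. -/
theorem half (h2 : (2 : F) ≠ 0) {t r : Matrix ι ι F} (ht : t * t = 1) (hr : IsUnit r) (hrt : r * t = -(t * r))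
    {U : Submodule F (ι → F)} (hUt : ∀ v ∈ U, t *ᵥ v ∈ U) (hUr : ∀ v ∈ U, r *ᵥ v ∈ U) :
    Module.finrank F U = 2 * Module.finrank F (U ⊓ LinearMap.ker (Matrix.toLin' (t - 1)) : Submodule F (ι → F)) := by
  obtain ⟨P, hP⟩ : ∃ P, P = U ⊓ LinearMap.ker (Matrix.toLin' (t - 1)) := ⟨_, rfl⟩
  obtain ⟨M, hM⟩ : ∃ M, M = U ⊓ LinearMap.ker (Matrix.toLin' (t + 1)) := ⟨_, rfl⟩
  rw [← hP]
  have hp : ∀ v, v ∈ P ↔ v ∈ U ∧ t *ᵥ v = v := fun v => by
    simp [hP, Matrix.toLin'_apply, sub_mulVec, sub_eq_zero]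
  have hm : ∀ v, v ∈ M ↔ v ∈ U ∧ t *ᵥ v = -v := fun v => by
    simp [hM, Matrix.toLin'_apply, add_mulVec, eq_neg_iff_add_eq_zero]
  have hinj : Function.Injective (Matrix.toLin' r) := fun a b h => by
    simp only [Matrix.toLin'_apply] at h
    exact Matrix.mulVec_injective_iff_isUnit.2 hr h
  have hflip : ∀ v, t *ᵥ (r *ᵥ v) = -(r *ᵥ (t *ᵥ v)) := fun v => by
    rw [mulVec_mulVec, mulVec_mulVec, show t * r = -(r * t) by rw [hrt, neg_neg], neg_mulVec]
  have hPM : Module.finrank F P ≤ Module.finrank F M := by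
    refine le_of_eq_of_le (Submodule.equivMapOfInjective _ hinj P).finrank_eq (Submodule.finrank_mono ?_)
    rintro _ ⟨v, hv, rfl⟩
    obtain ⟨hvU, htv⟩ := (hp v).1 hv
    exact (hm _).2 ⟨by simpa using hUr v hvU, by simp [Matrix.toLin'_apply, hflip, htv]⟩
  have hMP : Module.finrank F M ≤ Module.finrank F P := by
    refine le_of_eq_of_le (Submodule.equivMapOfInjective _ hinj M).finrank_eq (Submodule.finrank_mono ?_)
    rintro _ ⟨v, hv, rfl⟩
    obtain ⟨hvU, htv⟩ := (hm v).1 hv
    exact (hp _).2 ⟨by simpa using hUr v hvU, by simp [Matrix.toLin'_apply, hflip, htv, mulVec_neg]⟩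
  have hsup : P ⊔ M = U := by
    refine le_antisymm (sup_le (fun v hv => ((hp v).1 hv).1) fun v hv => ((hm v).1 hv).1) fun v hv => ?_
    refine Submodule.mem_sup.2 ⟨(2 : F)⁻¹ • (v + t *ᵥ v), (hp _).2 ⟨U.smul_mem _ (U.add_mem hv (hUt v hv)), ?_⟩,
      (2 : F)⁻¹ • (v - t *ᵥ v), (hm _).2 ⟨U.smul_mem _ (U.sub_mem hv (hUt v hv)), ?_⟩, ?_⟩
    · rw [mulVec_smul, mulVec_add, mulVec_mulVec, ht, one_mulVec, add_comm]
    · rw [mulVec_smul, mulVec_sub, mulVec_mulVec, ht, one_mulVec, ← smul_neg, neg_sub]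
    · rw [← smul_add, add_add_sub_cancel, ← two_smul F v, smul_smul, inv_mul_cancel₀ h2, one_smul]
  have hinf : P ⊓ M = ⊥ := (Submodule.eq_bot_iff _).2 fun v hv => by
    have h := ((hp v).1 hv.1).2
    rw [((hm v).1 hv.2).2] at h
    have h0 : (2 : F) • v = 0 := by rw [two_smul]; nth_rewrite 1 [← h]; exact neg_add_cancel v
    exact (smul_eq_zero.1 h0).resolve_left h2
  have := Submodule.finrank_sup_add_finrank_inf_eq P M
  rw [hsup, hinf, finrank_bot] at this
  omega

section Star

variable {K : Type u} [Field K] [Fintype K] {q n : ℕ} (hK : Fintype.card K = q ^ 2)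
include hK

/-- Conjugate transposition keeps the dimension of the kernel. -/
theorem ker_starQ (M : Matrix (Fin n) (Fin n) K) :
    Module.finrank K (LinearMap.ker (Matrix.toLin' (CfsgLib.Classical.GUConj.starQ q M))) =
      Module.finrank K (LinearMap.ker (Matrix.toLin' M)) := by
  obtain ⟨σ, hσ, hσσ, -⟩ := CfsgLib.Classical.exists_qPow hK
  obtain ⟨M', hM'⟩ : ∃ M', M' = M.map σ := ⟨_, rfl⟩
  have hs : CfsgLib.Classical.GUConj.starQ q M = M'ᵀ := by
    rw [hM']; ext i j; simp [CfsgLib.Classical.GUConj.starQ, hσ]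
  have h1 : Module.finrank K (LinearMap.ker (Matrix.toLin' M'ᵀ)) = Module.finrank K (LinearMap.ker (Matrix.toLin' M')) := by
    have a := LinearMap.finrank_range_add_finrank_ker (Matrix.toLin' M'ᵀ)
    have b := LinearMap.finrank_range_add_finrank_ker (Matrix.toLin' M')
    have c : Module.finrank K (LinearMap.range (Matrix.toLin' M'ᵀ)) = Module.finrank K (LinearMap.range (Matrix.toLin' M')) :=
      M'.rank_transpose
    omega
  have h2 : ∀ v, M' *ᵥ (fun i => σ (v i)) = fun i => σ ((M *ᵥ v) i) := fun v => by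
    funext i; simp [hM', Matrix.mulVec, dotProduct]
  have h3 : Nat.card (LinearMap.ker (Matrix.toLin' M')) = Nat.card (LinearMap.ker (Matrix.toLin' M)) := by
    refine (Nat.card_congr ?_).symm
    refine
      { toFun := fun v => ⟨fun i => σ (v.1 i), ?_⟩
        invFun := fun v => ⟨fun i => σ (v.1 i), ?_⟩
        left_inv := fun v => Subtype.ext (funext fun i => hσσ _)
        right_inv := fun v => Subtype.ext (funext fun i => hσσ _) }
    · have hv := LinearMap.mem_ker.1 v.2
      rw [Matrix.toLin'_apply] at hv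
      rw [LinearMap.mem_ker, Matrix.toLin'_apply, h2, hv]
      funext i; simp
    · have hv := LinearMap.mem_ker.1 v.2
      rw [Matrix.toLin'_apply] at hv
      have e := h2 fun i => σ (v.1 i)
      simp only [hσσ] at e
      rw [hv] at e
      rw [LinearMap.mem_ker, Matrix.toLin'_apply]
      funext i
      exact σ.injective (by rw [← congrFun e i]; simp)
  rw [Module.natCard_eq_pow_finrank (K := K) (V := LinearMap.ker (Matrix.toLin' M')),
    Module.natCard_eq_pow_finrank (K := K) (V := LinearMap.ker (Matrix.toLin' M))] at h3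
  rw [hs, h1]
  exact Nat.pow_right_injective (Finite.one_lt_card (α := K)) h3

end Star

end CfsgLib.Classical22.SympTypeFour
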