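/-
Representatives of the classes of elements of orders two and three normalising a group of symplectic type.
-/
import Cfsg.Agent.Lib.Classical22.SympTypeFour.Ker

set_option autoImplicit false

namespace CfsgLib.Classical22.SympTypeFour

open Matrix Polynomial

universe u

variable {ι : Type} [Fintype ι] [DecidableEq ι] {F : Type u} [Field F] [Fintype F] {R : Subgroup (GL ι F)}
  {e : Fin 5 → GL ι F}

omit [Fintype F] in
/-- The difference of two of the involutions exchanges them. -/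
theorem exists_inverter (h2 : (2 : F) ≠ 0) (hF : Frame R e) {i l : Fin 5} (hil : i ≠ l) :
    ∃ g : GL ι F, g * e i = -(e l * g) ∧ g * e l = -(e i * g) ∧ ∀ j, j ≠ i → j ≠ l → g * e j = -(e j * g) := by
  have e1 : ((e i : Matrix ι ι F) - e l) * ((e i : Matrix ι ι F) - e l) = (2 : F) • 1 := by
    rw [sub_mul, mul_sub, mul_sub, val_sq_one (hF.sq i), val_sq_one (hF.sq l), val_eq (hF.anti i l hil)]
    module
  obtain ⟨g, hg⟩ : ∃ g : GL ι F, (g : Matrix ι ι F) = (e i : Matrix ι ι F) - e l :=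
    ⟨⟨_, (2 : F)⁻¹ • ((e i : Matrix ι ι F) - e l), by
      rw [mul_smul_comm, e1, smul_smul, inv_mul_cancel₀ h2, one_smul], by
      rw [smul_mul_assoc, e1, smul_smul, inv_mul_cancel₀ h2, one_smul]⟩, rfl⟩
  refine ⟨g, Units.ext ?_, Units.ext ?_, fun j hji hjl => Units.ext ?_⟩ <;>
    rw [Units.val_mul, Units.val_neg, Units.val_mul, hg, sub_mul, mul_sub]
  · rw [val_sq_one (hF.sq i), val_sq_one (hF.sq l)]; abel
  · rw [val_sq_one (hF.sq i), val_sq_one (hF.sq l)]; abel
  · rw [val_eq (hF.anti i j hji.symm), val_eq (hF.anti l j hjl.symm)]; abel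

omit [Fintype F] in
theorem anti_prod (hF : Frame R e) {i j k : Fin 5} (hki : k ≠ i) (hkj : k ≠ j) :
    e k * (e i * e j) = e i * e j * e k := by
  rw [← mul_assoc, hF.anti k i hki, neg_mul, mul_assoc, hF.anti k j hkj, mul_neg, neg_neg, ← mul_assoc]

omit [Fintype F] in
theorem anti_left (hF : Frame R e) {i j : Fin 5} (hij : i ≠ j) :
    e i * (e i * e j) = -(e i * e j * e i) := by
  rw [mul_assoc (e i) (e j), hF.anti j i hij.symm, mul_neg, neg_neg]

omit [Fintype F] in
theorem comm_scaled {z a b : GL ι F} (hzc : ∀ y, z * y = y * z) (h : a * b = b * a) : a * (z * b) = z * b * a := by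
  rw [← mul_assoc, ← hzc a, mul_assoc, h, ← mul_assoc]

omit [Fintype F] in
theorem anti_scaled {z a b : GL ι F} (hzc : ∀ y, z * y = y * z) (h : a * b = -(b * a)) :
    a * (z * b) = -(z * b * a) := by
  rw [← mul_assoc, ← hzc a, mul_assoc, h, mul_neg, ← mul_assoc]

/-- Two classes of elements of order three. -/
theorem models_three [Nonempty ι] (h2 : (2 : F) ≠ 0) (h3 : (3 : F) ≠ 0) (hS : Setting R) (hF : Frame R e) {z : GL ι F}
    (hz : z ∈ R) (hzc : ∀ y, z * y = y * z) (hz2 : z * z = -1) {σ : F →+* F} {h : (ι → F) → (ι → F) → F}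
    (hh : Sesq σ h) (hp : ∀ a ∈ R, Pres h a) :
    ∃ w u : GL ι F, (w ∈ Cfsg.Geo.subgroupNormalizer R ∧ Pres h w ∧ (w : Matrix ι ι F).det = 1 ∧ w ^ 3 = 1 ∧
        (w : Matrix ι ι F) * w + w + 1 = 0) ∧
      (u ∈ Cfsg.Geo.subgroupNormalizer R ∧ Pres h u ∧ (u : Matrix ι ι F).det = 1 ∧ u ^ 3 = 1 ∧
        (u : Matrix ι ι F) * u + u + 1 ≠ 0) ∧ u ≠ 1 := by
  obtain ⟨a, ha⟩ : ∃ a, a = -(e 0 * e 1) := ⟨_, rfl⟩
  obtain ⟨b, hb⟩ : ∃ b, b = -(e 1 * e 2) := ⟨_, rfl⟩
  obtain ⟨c, hc⟩ : ∃ c, c = z * e 3 := ⟨_, rfl⟩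
  obtain ⟨d, hd⟩ : ∃ d, d = z * e 4 := ⟨_, rfl⟩
  have haR : a ∈ R := by rw [ha, ← neg_one_mul]; exact mul_mem hS.neg (mul_mem (hF.mem 0) (hF.mem 1))
  have hbR : b ∈ R := by rw [hb, ← neg_one_mul]; exact mul_mem hS.neg (mul_mem (hF.mem 1) (hF.mem 2))
  have hcR : c ∈ R := hc ▸ mul_mem hz (hF.mem 3)
  have hdR : d ∈ R := hd ▸ mul_mem hz (hF.mem 4)
  have ha2 : a * a = -1 := by
    rw [ha, neg_mul_neg, sq_mul_anti (hF.anti 0 1 (by decide)), hF.sq, hF.sq, one_mul]
  have hb2 : b * b = -1 := by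
    rw [hb, neg_mul_neg, sq_mul_anti (hF.anti 1 2 (by decide)), hF.sq, hF.sq, one_mul]
  have hc2 : c * c = -1 := by rw [hc, sq_mul_comm (hzc _), hz2, hF.sq, mul_one]
  have hd2 : d * d = -1 := by rw [hd, sq_mul_comm (hzc _), hz2, hF.sq, mul_one]
  have hab : a * b = -(b * a) := by
    rw [ha, hb, neg_mul_neg, neg_mul_neg, mul_assoc (e 0) (e 1), anti_left hF (by decide : (1 : Fin 5) ≠ 2),
      mul_neg, ← mul_assoc (e 0) (e 1 * e 2), anti_prod hF (by decide : (0 : Fin 5) ≠ 1) (by decide : (0 : Fin 5) ≠ 2),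
      mul_assoc (e 1 * e 2)]
  have hcd : c * d = -(d * c) := by
    rw [hd, anti_scaled hzc]
    have := anti_scaled hzc (hF.anti 4 3 (by decide))
    rw [← hc] at this
    rw [this, neg_neg]
  -- the two pairs commute
  have hmix : ∀ i j k : Fin 5, k ≠ i → k ≠ j → z * e k * -(e i * e j) = -(e i * e j) * (z * e k) := fun i j k h1 h2' => by
    rw [mul_neg, neg_mul, comm_scaled hzc (anti_prod hF h1 h2').symm]
  have hca : c * a = a * c := hc ▸ ha ▸ hmix 0 1 3 (by decide) (by decide)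
  have hcb : c * b = b * c := hc ▸ hb ▸ hmix 1 2 3 (by decide) (by decide)
  have hda : d * a = a * d := hd ▸ ha ▸ hmix 0 1 4 (by decide) (by decide)
  have hdb : d * b = b * d := hd ▸ hb ▸ hmix 1 2 4 (by decide) (by decide)
  obtain ⟨w, hw, hwq, hw3, hwa, hwb⟩ := exists_quat h2 ha2 hb2 hab
  obtain ⟨v, hv, hvq, hv3, hvc, hvd⟩ := exists_quat h2 hc2 hd2 hcd
  have hwc : w * c = c * w := (quat_comm hw hca hcb).symm
  have hwd : w * d = d * w := (quat_comm hw hda hdb).symm
  have hwv : w * v = v * w := quat_comm hv hwc hwd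
  have hwN := quat_normal hS haR hbR hab hw hwa hwb
  have hvN := quat_normal hS hcR hdR hcd hv hvc hvd
  have hwP := quat_pres h2 hh ha2 hb2 hab (hp a haR) (hp b hbR) hw
  have hvP := quat_pres h2 hh hc2 hd2 hcd (hp c hcR) (hp d hdR) hv
  obtain ⟨g, g0, g2, gm⟩ := exists_inverter h2 hF (by decide : (0 : Fin 5) ≠ 2)
  obtain ⟨k, k3, k4, -⟩ := exists_inverter h2 hF (by decide : (3 : Fin 5) ≠ 4)
  have hwD : (w : Matrix ι ι F).det = 1 := by
    refine det_eq_one_of_inverted (g := g) hw3 (quat_inverted (g := g) h2 hw ha2 hb2 hab ?_ ?_)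
    · rw [ha, hb, mul_neg, neg_mul, neg_neg, ← mul_assoc g, g0, neg_mul, neg_neg, mul_assoc (e 2) g,
        gm 1 (by decide) (by decide), mul_neg, ← mul_assoc, hF.anti 2 1 (by decide), neg_mul, neg_neg]
    · rw [ha, hb, mul_neg, neg_mul, neg_neg, ← mul_assoc g, gm 1 (by decide) (by decide), neg_mul, neg_neg,
        mul_assoc (e 1) g, g2, mul_neg, ← mul_assoc, hF.anti 1 0 (by decide), neg_mul, neg_neg]
  have hvD : (v : Matrix ι ι F).det = 1 := by
    refine det_eq_one_of_inverted (g := k) hv3 (quat_inverted (g := k) h2 hv hc2 hd2 hcd ?_ ?_)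
    · rw [hc, hd, ← mul_assoc, ← hzc k, mul_assoc z k, k3, mul_neg, ← mul_assoc]
    · rw [hc, hd, ← mul_assoc, ← hzc k, mul_assoc z k, k4, mul_neg, ← mul_assoc]
  have hne : w ≠ v := by
    intro heq
    have h1 : v * a = a * v := (quat_comm hv hca.symm hda.symm).symm
    rw [← heq, hwa] at h1
    have h2' : b = a := mul_right_cancel h1
    rw [h2'] at hab
    exact neg_ne_self h2 _ hab.symm
  have hq : (w * v : GL ι F) ≠ 1 ∧ ((w * v : GL ι F) : Matrix ι ι F) * ((w * v : GL ι F) : Matrix ι ι F) +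
      ((w * v : GL ι F) : Matrix ι ι F) + 1 ≠ 0 := by
    obtain ⟨W, hW⟩ : ∃ W, W = (w : Matrix ι ι F) := ⟨_, rfl⟩
    obtain ⟨V, hV⟩ : ∃ V, V = (v : Matrix ι ι F) := ⟨_, rfl⟩
    have hVW : V * W = W * V := by rw [hV, hW, ← Units.val_mul, ← hwv, Units.val_mul]
    have hWW : W * W = -W - 1 := by
      rw [← hW] at hwq; rw [eq_sub_iff_add_eq, eq_neg_iff_add_eq_zero, add_right_comm]; exact hwq
    have hVV : V * V = -V - 1 := by
      rw [← hV] at hvq; rw [eq_sub_iff_add_eq, eq_neg_iff_add_eq_zero, add_right_comm]; exact hvq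
    refine ⟨fun h1 => ?_, fun h1 => ?_⟩
    · have h4 : W * V = 1 := by rw [hW, hV, ← Units.val_mul, h1, Units.val_one]
      have h5 : a * w = w * a := by
        have h6 : v = w⁻¹ := (inv_eq_of_mul_eq_one_right h1).symm
        have h7 : v * a = a * v := (quat_comm hv hca.symm hda.symm).symm
        rw [h6] at h7
        have := (show Commute w⁻¹ a from h7).inv_left
        rw [inv_inv] at this
        exact this.eq.symm
      rw [hwa] at h5
      have h2' : a = b := mul_right_cancel h5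
      rw [← h2'] at hab
      exact neg_ne_self h2 _ hab.symm
    · rw [Units.val_mul, ← hW, ← hV, show W * V * (W * V) = W * W * (V * V) by
        rw [mul_assoc W V, ← mul_assoc V W V, hVW, mul_assoc W V V, ← mul_assoc], hWW, hVV] at h1
      have hE : (2 : F) • (W * V) + W + V + (2 : F) • 1 = 0 := by
        rw [← h1]; simp only [sub_mul, mul_sub, neg_mul, mul_neg, one_mul, mul_one]; module
      have hE' : -(W * V) - (2 : F) • V + W - 1 = 0 := by
        have h4 := congrArg (fun M => W * M) hE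
        simp only [mul_add, mul_zero, mul_smul_comm, ← mul_assoc W W, hWW, mul_one, sub_mul, neg_mul, one_mul] at h4
        rw [← h4]; module
      have h5 : (3 : F) • (W - V) = 0 := by
        have h4 : ((2 : F) • (W * V) + W + V + (2 : F) • 1) + (2 : F) • (-(W * V) - (2 : F) • V + W - 1) = 0 := by
          rw [hE, hE', smul_zero, add_zero]
        rw [← h4]; module
      exact hne (Units.ext (hW ▸ hV ▸ sub_eq_zero.1 ((smul_eq_zero.1 h5).resolve_left h3)))
  refine ⟨w, w * v, ⟨hwN, hwP, hwD, hw3, hwq⟩, ⟨mul_mem hwN hvN, pres_mul hwP hvP, ?_, ?_, hq.2⟩, hq.1⟩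
  · rw [Units.val_mul, Matrix.det_mul, hwD, hvD, one_mul]
  · rw [(show Commute w v from hwv).mul_pow, hw3, hv3, one_mul]

omit [Fintype F] in
/-- The fixed space of an involution with an anticommuting element. -/
theorem kdim_anti (h2 : (2 : F) ≠ 0) {t r : GL ι F} (ht : t * t = 1) (hrt : r * t = -(t * r)) :
    Fintype.card ι = 2 * kdim (t : Matrix ι ι F) (X + C 1) := by
  have h := half h2 (t := -(t : Matrix ι ι F)) (by rw [neg_mul_neg, val_sq_one ht]) r.isUnit
    (by rw [mul_neg, neg_mul, val_eq hrt]) (U := ⊤) (fun _ _ => trivial) (fun _ _ => trivial)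
  rw [top_inf_eq, finrank_top, Module.finrank_pi] at h
  have hk : LinearMap.ker (Matrix.toLin' (-(t : Matrix ι ι F) - 1)) =
      LinearMap.ker (Matrix.toLin' (aeval (t : Matrix ι ι F) (X + C (1 : F)))) := by
    rw [show -(t : Matrix ι ι F) - 1 = -((t : Matrix ι ι F) + 1) by abel, map_neg, LinearMap.ker_neg]
    simp
  rw [hk] at h
  exact h

omit [Fintype F] in
theorem kdim_neg (t : Matrix ι ι F) : kdim (-t) (X + C 1) = kdim t (X - C 1) := by
  have h1 : aeval (-t) (X + C (1 : F)) = -(aeval t (X - C (1 : F))) := by simp; abel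
  rw [kdim, h1, map_neg, LinearMap.ker_neg, kdim]

/-- The classes of involutions up to sign. -/
theorem models_two [Nonempty ι] (h2 : (2 : F) ≠ 0) (hι : Fintype.card ι = 4) (hS : Setting R) (hF : Frame R e) {z : GL ι F}
    (hz : z ∈ R) (hzc : ∀ y, z * y = y * z) (hz2 : z * z = -1) {σ : F →+* F} {h : (ι → F) → (ι → F) → F}
    (hh : Sesq σ h) (hp : ∀ a ∈ R, Pres h a) :
    ∃ t s : GL ι F, (t ∈ Cfsg.Geo.subgroupNormalizer R ∧ Pres h t ∧ t * t = 1 ∧
        kdim (t : Matrix ι ι F) (X + C 1) = 2) ∧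
      (s ∈ Cfsg.Geo.subgroupNormalizer R ∧ Pres h s ∧ s * s = 1 ∧ kdim (s : Matrix ι ι F) (X + C 1) = 1) := by
  have hRN : ∀ a ∈ R, a ∈ Cfsg.Geo.subgroupNormalizer R := fun a ha => Subgroup.le_normalizer ha
  have k0 := kdim_anti h2 (hF.sq 0) (hF.anti 1 0 (by decide))
  rw [hι] at k0
  obtain ⟨B, hB⟩ : ∃ B, B = z * (e 1 * e 2) := ⟨_, rfl⟩
  have hBR : B ∈ R := hB ▸ mul_mem hz (mul_mem (hF.mem 1) (hF.mem 2))
  have hB2 : B * B = 1 := by
    rw [hB, sq_mul_comm (hzc _), sq_mul_anti (hF.anti 1 2 (by decide)), hz2, hF.sq, hF.sq, one_mul, neg_one_mul, neg_neg]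
  have hAB : e 0 * B = B * e 0 := hB ▸ comm_scaled hzc (anti_prod hF (by decide) (by decide))
  obtain ⟨s, hs, hs2, hsp, hsr⟩ := reflection_facts h2 (hF.sq 0) hB2 hAB
  refine ⟨e 0, s, ⟨hRN _ (hF.mem 0), hp _ (hF.mem 0), hF.sq 0, by omega⟩,
    reflection_normal hS (hF.mem 0) hBR hsr, hsp hh (hp _ (hF.mem 0)) (hp _ hBR), hs2, ?_⟩
  -- the common fixed space of the two involutions
  obtain ⟨U, hU⟩ : ∃ U, U = LinearMap.ker (Matrix.toLin' ((e 0 : Matrix ι ι F) - 1)) := ⟨_, rfl⟩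
  have hmem : ∀ v, v ∈ U ↔ (e 0 : Matrix ι ι F) *ᵥ v = v := fun v => by
    simp [hU, Matrix.toLin'_apply, sub_mulVec, sub_eq_zero]
  have hU2 : Module.finrank F U = 2 := by
    have h := half h2 (val_sq_one (hF.sq 0)) (e 1).isUnit (val_eq (hF.anti 1 0 (by decide)))
      (U := ⊤) (fun _ _ => trivial) (fun _ _ => trivial)
    rw [top_inf_eq, finrank_top, Module.finrank_pi, hι, ← hU] at h
    omega
  have hcomm : ∀ x : GL ι F, e 0 * x = x * e 0 → ∀ v ∈ U, (x : Matrix ι ι F) *ᵥ v ∈ U := fun x hx v hv => by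
    rw [hmem] at hv ⊢
    rw [mulVec_mulVec, ← Units.val_mul, hx, Units.val_mul, ← mulVec_mulVec, hv]
  have hr : e 0 * (e 1 * e 3) = e 1 * e 3 * e 0 := anti_prod hF (by decide) (by decide)
  have hrB : e 1 * e 3 * B = -(B * (e 1 * e 3)) := by
    rw [hB]
    refine anti_scaled hzc ?_
    have k : ∀ j l : Fin 5, j ≠ 1 → e 1 * e j * (e 1 * e l) = -(e j * e l) := fun j l h => by
      rw [mul_assoc (e 1) (e j), ← mul_assoc (e j) (e 1), hF.anti j 1 h, neg_mul, mul_neg, mul_assoc (e 1) (e j),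
        ← mul_assoc (e 1) (e 1), hF.sq, one_mul]
    rw [k 3 2 (by decide), k 2 3 (by decide), hF.anti 3 2 (by decide)]
  have h1 := half h2 (val_sq_one hB2) (e 1 * e 3).isUnit (val_eq hrB) (hcomm B hAB) (hcomm _ hr)
  rw [hU2] at h1
  have hfix : U ⊓ LinearMap.ker (Matrix.toLin' ((B : Matrix ι ι F) - 1)) =
      LinearMap.ker (Matrix.toLin' (aeval (s : Matrix ι ι F) (X + C (1 : F)))) := by
    ext v
    rw [Submodule.mem_inf, hmem, LinearMap.mem_ker, LinearMap.mem_ker, Matrix.toLin'_apply, Matrix.toLin'_apply,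
      sub_mulVec, one_mulVec, sub_eq_zero, map_add, aeval_X, aeval_C, map_one, add_mulVec, one_mulVec]
    obtain ⟨A, hA⟩ : ∃ A, A = (e 0 : Matrix ι ι F) := ⟨_, rfl⟩
    obtain ⟨Y, hY⟩ : ∃ Y, Y = (B : Matrix ι ι F) := ⟨_, rfl⟩
    rw [← hA, ← hY] at hs ⊢
    constructor
    · rintro ⟨hv, hv'⟩
      rw [hs, smul_mulVec, sub_mulVec, sub_mulVec, sub_mulVec, one_mulVec, ← mulVec_mulVec, hv', hv,
        show v - v - v - v = (-2 : F) • v by module, smul_smul, show (2 : F)⁻¹ * -2 = -1 by field_simp,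
        neg_one_smul, neg_add_cancel]
    · intro hv
      have hS3 : ((3 : F) • (1 : Matrix ι ι F) - A - Y - A * Y) *ᵥ v = 0 := by
        have h4 := congrArg (fun x => (2 : F) • x) hv
        simp only [smul_zero, smul_add, hs, smul_mulVec, smul_smul, mul_inv_cancel₀ h2, one_smul] at h4
        rw [← h4]
        simp only [sub_mulVec, smul_mulVec, one_mulVec]
        module
      have hAA : A * A = 1 := hA ▸ val_sq_one (hF.sq 0)
      have hYY : Y * Y = 1 := hY ▸ val_sq_one hB2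
      have hYA : Y * A = A * Y := by rw [hA, hY, ← Units.val_mul, ← hAB, Units.val_mul]
      have hA' := congrArg (fun x => A *ᵥ x) hS3
      have hY' := congrArg (fun x => Y *ᵥ x) hS3
      simp only [mulVec_mulVec, mulVec_zero, mul_sub, mul_smul_comm, mul_one, ← mul_assoc A A, hAA, one_mul] at hA'
      simp only [mulVec_mulVec, mulVec_zero, mul_sub, mul_smul_comm, mul_one, hYY, ← mul_assoc Y A, hYA,
        mul_assoc A Y Y] at hY'
      have h4 : (4 : F) ≠ 0 := by rw [show (4 : F) = 2 * 2 by norm_num]; exact mul_ne_zero h2 h2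
      constructor
      · have e5 : (4 : F) • (A *ᵥ v - v) = 0 := by
          have := congrArg₂ (· - ·) hA' hS3
          simp only [sub_zero, sub_mulVec, smul_mulVec, one_mulVec] at this
          rw [← this]; module
        exact sub_eq_zero.1 ((smul_eq_zero.1 e5).resolve_left h4)
      · have e5 : (4 : F) • (Y *ᵥ v - v) = 0 := by
          have := congrArg₂ (· - ·) hY' hS3
          simp only [sub_zero, sub_mulVec, smul_mulVec, one_mulVec] at this
          rw [← this]; module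
        exact sub_eq_zero.1 ((smul_eq_zero.1 e5).resolve_left h4)
  rw [hfix] at h1
  show Module.finrank F _ = 1
  omega

end CfsgLib.Classical22.SympTypeFour
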