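/-
Classes of elements of orders two, three and five in four dimensions.
-/
import Cfsg.Agent.Lib.Classical22.SympTypeFour.Models
import Cfsg.Agent.Lib.FGS.CyclotomicModule

set_option autoImplicit false

namespace CfsgLib.Classical22.SympTypeFour

open Matrix Polynomial CfsgLib.Classical

universe u

variable {ι : Type} [Fintype ι] [DecidableEq ι] {F : Type u} [Field F]

theorem exists_scalar_gl {c : F} (hc : c ≠ 0) : ∃ u : GL ι F, (u : Matrix ι ι F) = c • 1 :=
  ⟨⟨c • 1, c⁻¹ • 1, by rw [smul_mul_smul_comm, mul_inv_cancel₀ hc, one_mul, one_smul], by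
    rw [smul_mul_smul_comm, inv_mul_cancel₀ hc, one_mul, one_smul]⟩, rfl⟩

theorem kdim_le (x : Matrix ι ι F) (Q : F[X]) : kdim x Q ≤ Fintype.card ι :=
  (Submodule.finrank_le _).trans (le_of_eq (Module.finrank_pi F))

theorem exists_vec_of_kdim {x : Matrix ι ι F} {Q : F[X]} (h : kdim x Q ≠ 0) :
    ∃ v ≠ 0, aeval x Q *ᵥ v = 0 := by
  rw [kdim, Ne, Submodule.finrank_eq_zero, ← Ne, Submodule.ne_bot_iff] at h
  obtain ⟨v, hv, hv0⟩ := h
  exact ⟨v, hv0, by rwa [LinearMap.mem_ker, Matrix.toLin'_apply] at hv⟩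

theorem eq_one_of_kdim {x : GL ι F} (h : kdim (x : Matrix ι ι F) (X - C 1) = Fintype.card ι) : x = 1 := by
  have h1 := zero_of_kdim h
  rw [map_sub, aeval_X, aeval_C, map_one, sub_eq_zero] at h1
  exact Units.ext h1

theorem kdim_dvd (x : Matrix ι ι F) (Q : F[X]) [Fact (Irreducible Q)] : Q.natDegree ∣ kdim x Q := by
  have h := Primary.natDegree_dvd_finrank Q
    ((Matrix.toLin' x).restrict (Primary.ker_invariant (Matrix.toLin' x) Q))
    (Primary.aeval_restrict_ker (Matrix.toLin' x) Q)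
  rw [aeval_toLin] at h
  exact h

theorem irreducible_quad {b c : F} (h : ∀ a : F, a * a + b * a + c ≠ 0) :
    Irreducible (X ^ 2 + C b * X + C c) ∧ (X ^ 2 + C b * X + C c).natDegree = 2 := by
  obtain ⟨Q, hQ⟩ : ∃ Q, Q = X ^ 2 + C b * X + C c := ⟨_, rfl⟩
  have hd : Q.natDegree = 2 := by rw [hQ]; compute_degree!
  have hm : Q.Monic := by rw [hQ]; monicity!
  rw [← hQ]
  refine ⟨(Monic.irreducible_iff_roots_eq_zero_of_degree_le_three hm hd.ge (by omega)).2
    (Multiset.eq_zero_of_forall_notMem fun a ha => ?_), hd⟩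
  have := isRoot_of_mem_roots ha
  rw [IsRoot, hQ, eval_add, eval_add, eval_mul, eval_pow, eval_X, eval_C, eval_C, pow_two] at this
  exact h a this

/-- Involutions are classified by their fixed spaces. -/
theorem conj_two (h2 : (2 : F) ≠ 0) {x y : GL ι F} (hx : x * x = 1) (hy : y * y = 1)
    (h : kdim (x : Matrix ι ι F) (X + C 1) = kdim (y : Matrix ι ι F) (X + C 1)) : ∃ g : GL ι F, g * x = y * g := by
  obtain ⟨P, hP⟩ : ∃ P : Fin 2 → F[X], P = ![X - C 1, X + C 1] := ⟨_, rfl⟩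
  haveI : ∀ j, Fact (Irreducible (P j)) := fun j => ⟨by
    fin_cases j
    · rw [hP]; exact irreducible_X_sub_C 1
    · rw [hP]; show Irreducible (X + C (1 : F))
      rw [show (X + C (1 : F)) = X - C (-1) by rw [map_neg, sub_neg_eq_add]]
      exact irreducible_X_sub_C _⟩
  have hc : IsCoprime (X - C (1 : F)) (X + C 1) := by
    rw [show (X + C (1 : F)) = X - C (-1) by rw [map_neg, sub_neg_eq_add]]
    exact isCoprime_X_sub_C_of_isUnit_sub (isUnit_iff_ne_zero.2 (by rwa [sub_neg_eq_add, one_add_one_eq_two]))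
  have hco : Pairwise (Function.onFun IsCoprime P) := fun i j hij => by
    fin_cases i <;> fin_cases j <;> simp [Function.onFun, hP] at hij ⊢
    · simpa using hc
    · simpa using hc.symm
  have hann : ∀ z : GL ι F, z * z = 1 → aeval (z : Matrix ι ι F) (∏ j, P j) = 0 := fun z hz => by
    rw [hP, Fin.prod_univ_two]
    show aeval _ ((X - C (1 : F)) * (X + C 1)) = 0
    rw [show ((X - C (1 : F)) * (X + C 1)) = X * X - 1 by rw [map_one]; ring, map_sub, map_mul, aeval_X, map_one,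
      val_sq_one hz, sub_self]
  have s1 := kdim_sum P hco (hann x hx)
  have s2 := kdim_sum P hco (hann y hy)
  refine conj_of_kdim P hco (hann x hx) (hann y hy) fun j => ?_
  rw [hP, Fin.sum_univ_two] at s1 s2
  rw [hP]
  fin_cases j
  · show kdim _ (X - C (1 : F)) = kdim _ (X - C 1)
    change kdim _ (X - C (1 : F)) + kdim _ (X + C 1) = _ at s1
    change kdim _ (X - C (1 : F)) + kdim _ (X + C 1) = _ at s2
    omega
  · exact h

theorem ann_three {z : GL ι F} (hz : z ^ 3 = 1) :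
    aeval (z : Matrix ι ι F) ((X - C (1 : F)) * (X ^ 2 + C 1 * X + C 1)) = 0 := by
  rw [show (X - C (1 : F)) * (X ^ 2 + C 1 * X + C 1) = X ^ 3 - 1 by rw [map_one]; ring, map_sub, map_pow, aeval_X,
    map_one, ← Units.val_pow_eq_pow_val, hz, Units.val_one, sub_self]

/-- Elements of order three without cube roots of unity in the field. -/
theorem class_three_linear (hι : Fintype.card ι = 4) (h3 : (3 : F) ≠ 0) (hω : ∀ a : F, a * a + a + 1 ≠ 0) :
    (∀ x : GL ι F, x ^ 3 = 1 → ∃ c, kdim (x : Matrix ι ι F) (X - C 1) + 2 * c = 4) ∧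
    (∀ x y : GL ι F, x ^ 3 = 1 → y ^ 3 = 1 →
      kdim (x : Matrix ι ι F) (X - C 1) = kdim (y : Matrix ι ι F) (X - C 1) → ∃ g : GL ι F, g * x = y * g) := by
  obtain ⟨hirr, hdeg⟩ := irreducible_quad (b := (1 : F)) (c := 1) fun a => by rw [one_mul]; exact hω a
  obtain ⟨P, hP⟩ : ∃ P : Fin 2 → F[X], P = ![X - C 1, X ^ 2 + C 1 * X + C 1] := ⟨_, rfl⟩
  haveI hf : Fact (Irreducible (X ^ 2 + C (1 : F) * X + C 1)) := ⟨hirr⟩
  haveI : ∀ j, Fact (Irreducible (P j)) := fun j => ⟨by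
    fin_cases j
    · rw [hP]; exact irreducible_X_sub_C 1
    · rw [hP]; exact hirr⟩
  have hc : IsCoprime (X - C (1 : F)) (X ^ 2 + C 1 * X + C 1) := by
    refine (irreducible_X_sub_C (1 : F)).coprime_iff_not_dvd.2 fun hd => ?_
    rw [dvd_iff_isRoot, IsRoot] at hd
    simp at hd
    exact h3 (by linear_combination hd)
  have hco : Pairwise (Function.onFun IsCoprime P) := fun i j hij => by
    fin_cases i <;> fin_cases j
    · exact absurd rfl hij
    · rw [hP]; exact hc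
    · rw [hP]; exact hc.symm
    · exact absurd rfl hij
  have hann : ∀ z : GL ι F, z ^ 3 = 1 → aeval (z : Matrix ι ι F) (∏ j, P j) = 0 := fun z hz => by
    rw [hP, Fin.prod_univ_two]; exact ann_three hz
  have hsum : ∀ z : GL ι F, z ^ 3 = 1 →
      kdim (z : Matrix ι ι F) (X - C 1) + kdim (z : Matrix ι ι F) (X ^ 2 + C 1 * X + C 1) = 4 := fun z hz => by
    have s := kdim_sum P hco (hann z hz)
    rw [hP, Fin.sum_univ_two, hι] at s
    exact s
  refine ⟨fun x hx => ?_, fun x y hx hy h => conj_of_kdim P hco (hann x hx) (hann y hy) fun j => ?_⟩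
  · obtain ⟨c, hc'⟩ := kdim_dvd (x : Matrix ι ι F) (X ^ 2 + C 1 * X + C 1)
    rw [hdeg] at hc'
    exact ⟨c, hc' ▸ hsum x hx⟩
  · have s1 := hsum x hx
    have s2 := hsum y hy
    rw [hP]
    fin_cases j
    · exact h
    · show kdim _ (X ^ 2 + C (1 : F) * X + C 1) = kdim _ (X ^ 2 + C 1 * X + C 1)
      omega

theorem ann_five {z : GL ι F} (hz : z ^ 5 = 1) :
    aeval (z : Matrix ι ι F) ((X - C (1 : F)) * (X ^ 4 + X ^ 3 + X ^ 2 + X + 1)) = 0 := by
  rw [show (X - C (1 : F)) * (X ^ 4 + X ^ 3 + X ^ 2 + X + 1) = X ^ 5 - 1 by rw [map_one]; ring, map_sub, map_pow,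
    aeval_X, map_one, ← Units.val_pow_eq_pow_val, hz, Units.val_one, sub_self]

/-- Elements of order five over the prime field. -/
theorem class_five_linear [Fintype F] {p : ℕ} [hp : Fact p.Prime] [CharP F p] (hF : Fintype.card F = p)
    (hι : Fintype.card ι = 4) (hord : orderOf (p : ZMod 5) = 4) :
    ∀ x y : GL ι F, x ^ 5 = 1 → y ^ 5 = 1 → x ≠ 1 → y ≠ 1 → ∃ g : GL ι F, g * x = y * g := by
  haveI : Fact (Nat.Prime 5) := ⟨by norm_num⟩
  obtain ⟨Q, hQ⟩ : ∃ Q : F[X], Q = X ^ 4 + X ^ 3 + X ^ 2 + X + 1 := ⟨_, rfl⟩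
  have hcyc : Q = cyclotomic 5 F := by
    rw [hQ, cyclotomic_prime]
    simp [Finset.sum_range_succ]
    ring
  have hirr : Irreducible Q := by
    have h := CfsgLib.FGS.irreducible_cyclotomic_of_primitive_root (p := p) (q := 5) hord
    have e := ZMod.ringEquivOfPrime F hp.out hF
    rw [← MulEquiv.irreducible_iff (Polynomial.mapEquiv e)] at h
    rw [hcyc, ← map_cyclotomic 5 e.toRingHom]
    exact h
  have hdeg : Q.natDegree = 4 := by rw [hQ]; compute_degree!
  obtain ⟨P, hP⟩ : ∃ P : Fin 2 → F[X], P = ![X - C 1, Q] := ⟨_, rfl⟩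
  haveI hf : Fact (Irreducible Q) := ⟨hirr⟩
  haveI : ∀ j, Fact (Irreducible (P j)) := fun j => ⟨by
    fin_cases j
    · rw [hP]; exact irreducible_X_sub_C 1
    · rw [hP]; exact hirr⟩
  have hc : IsCoprime (X - C (1 : F)) Q := by
    refine (irreducible_X_sub_C (1 : F)).coprime_iff_not_dvd.2 fun hd => ?_
    have := natDegree_eq_of_degree_eq (degree_eq_degree_of_associated ((irreducible_X_sub_C (1 : F)).associated_of_dvd hirr hd))
    rw [natDegree_X_sub_C, hdeg] at this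
    omega
  have hco : Pairwise (Function.onFun IsCoprime P) := fun i j hij => by
    fin_cases i <;> fin_cases j
    · exact absurd rfl hij
    · rw [hP]; exact hc
    · rw [hP]; exact hc.symm
    · exact absurd rfl hij
  have hann : ∀ z : GL ι F, z ^ 5 = 1 → aeval (z : Matrix ι ι F) (∏ j, P j) = 0 := fun z hz => by
    rw [hP, Fin.prod_univ_two, hQ]; exact ann_five hz
  have key : ∀ z : GL ι F, z ^ 5 = 1 → z ≠ 1 →
      kdim (z : Matrix ι ι F) (X - C 1) = 0 ∧ kdim (z : Matrix ι ι F) Q = 4 := fun z hz hz1 => by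
    have s := kdim_sum P hco (hann z hz)
    rw [hP, Fin.sum_univ_two, hι] at s
    change kdim _ (X - C (1 : F)) + kdim _ Q = 4 at s
    obtain ⟨c, hc'⟩ := kdim_dvd (z : Matrix ι ι F) Q
    rw [hdeg] at hc'
    have : kdim (z : Matrix ι ι F) (X - C 1) ≠ 4 := fun h => hz1 (eq_one_of_kdim (h.trans hι.symm))
    omega
  intro x y hx hy hx1 hy1
  refine conj_of_kdim P hco (hann x hx) (hann y hy) fun j => ?_
  obtain ⟨a, b⟩ := key x hx hx1
  obtain ⟨a', b'⟩ := key y hy hy1
  rw [hP]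
  fin_cases j
  · exact a.trans a'.symm
  · exact b.trans b'.symm

section Unitary

variable [Fintype F] {p n : ℕ}

theorem starQ_val (hF : Fintype.card F = p ^ 2) {x : GL (Fin n) F} (hx : x ∈ Cfsg.GU n F p) :
    GUConj.starQ p (x : Matrix (Fin n) (Fin n) F) = ((x⁻¹ : GL (Fin n) F) : Matrix (Fin n) (Fin n) F) :=
  Units.eq_inv_of_mul_eq_one_right ((GUConj.mem_gu_iff_starQ hF x).1 hx)

theorem starQ_smul (hF : Fintype.card F = p ^ 2) (c : F) (M : Matrix (Fin n) (Fin n) F) :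
    GUConj.starQ p (c • M) = c ^ p • GUConj.starQ p M := by
  rw [Algebra.smul_def, GUConj.starQ_mul hF, GUConj.starQ_scal hF, ← Algebra.commutes, ← Algebra.smul_def]

/-- Elements of order three with cube roots of unity of norm other than one. -/
theorem class_three_unitary (hF : Fintype.card F = p ^ 2) (h3 : (3 : F) ≠ 0) {ω : F} (hω : ω * ω + ω + 1 = 0)
    (hωp : ω ^ p = ω) :
    (∀ x : GL (Fin 4) F, x ∈ Cfsg.GU 4 F p → x ^ 3 = 1 →
      ∃ c, kdim (x : Matrix (Fin 4) (Fin 4) F) (X - C 1) + 2 * c = 4) ∧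
    (∀ x y : GL (Fin 4) F, x ∈ Cfsg.GU 4 F p → y ∈ Cfsg.GU 4 F p → x ^ 3 = 1 → y ^ 3 = 1 →
      kdim (x : Matrix (Fin 4) (Fin 4) F) (X - C 1) = kdim (y : Matrix (Fin 4) (Fin 4) F) (X - C 1) →
      ∃ g : GL (Fin 4) F, g * x = y * g) := by
  obtain ⟨τ, hτ⟩ : ∃ τ : Fin 3 → F, τ = ![1, ω, ω ^ 2] := ⟨_, rfl⟩
  have hω3 : ω ^ 3 = 1 := by linear_combination (ω - 1) * hω
  have hω1 : ω ≠ 1 := fun h => h3 (by rw [h] at hω; linear_combination hω)
  have hω0 : ω ≠ 0 := fun h => by simp [h] at hω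
  have hinj : Function.Injective τ := by
    intro i j h
    have h12 : ω ^ 2 ≠ 1 := fun e => hω1 (by linear_combination hω3 - ω * e)
    have h21 : ω ^ 2 ≠ ω := fun e => hω1 (mul_left_cancel₀ hω0 (by linear_combination e))
    rw [hτ] at h
    fin_cases i <;> fin_cases j <;>
      first
        | rfl
        | exact absurd h hω1
        | exact absurd h.symm hω1
        | exact absurd h h12
        | exact absurd h.symm h12
        | exact absurd h h21
        | exact absurd h.symm h21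
  haveI : ∀ j, Fact (Irreducible ((fun j => X - C (τ j)) j)) := fun j => ⟨irreducible_X_sub_C _⟩
  have hco := pairwise_coprime_X_sub_C hinj
  have hann : ∀ z : GL (Fin 4) F, z ^ 3 = 1 →
      aeval (z : Matrix (Fin 4) (Fin 4) F) (∏ j, (X - C (τ j))) = 0 := fun z hz => by
    rw [Fin.prod_univ_three, hτ, ← ann_three hz]
    congr 1
    show (X - C (1 : F)) * (X - C ω) * (X - C (ω ^ 2)) = _
    have e1 : C ω + C (ω ^ 2) = (-1 : F[X]) := by
      rw [← map_add, show ω + ω ^ 2 = -1 by linear_combination hω, map_neg, map_one]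
    have e2 : C ω * C (ω ^ 2) = (1 : F[X]) := by
      rw [← map_mul, show ω * ω ^ 2 = 1 by linear_combination hω3, map_one]
    rw [map_one]
    linear_combination (-(X - 1) * X) * e1 + (X - 1) * e2
  have hsym : ∀ x : GL (Fin 4) F, x ∈ Cfsg.GU 4 F p →
      kdim (x : Matrix (Fin 4) (Fin 4) F) (X - C (ω ^ 2)) = kdim (x : Matrix (Fin 4) (Fin 4) F) (X - C ω) := by
    intro x hx
    obtain ⟨M, hM⟩ : ∃ M, M = aeval (x : Matrix (Fin 4) (Fin 4) F) (X - C ω) := ⟨_, rfl⟩
    rw [kdim, kdim, ← hM, ← ker_starQ hF M]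
    have e : GUConj.starQ p M = ((-ω) • ((x⁻¹ : GL (Fin 4) F) : Matrix (Fin 4) (Fin 4) F)) *
        aeval (x : Matrix (Fin 4) (Fin 4) F) (X - C (ω ^ 2)) := by
      rw [hM, map_sub, aeval_X, aeval_C, Algebra.algebraMap_eq_smul_one, map_sub, aeval_X, aeval_C,
        Algebra.algebraMap_eq_smul_one, sub_eq_add_neg, ← neg_smul, GUConj.starQ_add hF, starQ_smul hF,
        starQ_val hF hx, GUConj.starQ_one hF, mul_sub, smul_mul_assoc, ← Units.val_mul, inv_mul_cancel,
        Units.val_one, mul_smul_comm, mul_one, smul_smul]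
      have e1 : (-ω) ^ p = -ω := by
        obtain ⟨σ, hσ, -, -⟩ := exists_qPow hF
        rw [← hσ, map_neg, hσ, hωp]
      rw [e1, show ω ^ 2 * -ω = -1 by linear_combination -hω3]
      module
    have hb : LinearMap.ker (Matrix.toLin' ((-ω) • ((x⁻¹ : GL (Fin 4) F) : Matrix (Fin 4) (Fin 4) F))) = ⊥ :=
      LinearMap.ker_eq_bot.2 fun a b hab => by
        simp only [Matrix.toLin'_apply, smul_mulVec] at hab
        exact Matrix.mulVec_injective_iff_isUnit.2 (x⁻¹).isUnit (smul_right_injective _ (neg_ne_zero.2 hω0) hab)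
    rw [e, Matrix.toLin'_mul, LinearMap.ker_comp, hb, Submodule.comap_bot]
  have hsum : ∀ z : GL (Fin 4) F, z ∈ Cfsg.GU 4 F p → z ^ 3 = 1 →
      kdim (z : Matrix (Fin 4) (Fin 4) F) (X - C 1) + 2 * kdim (z : Matrix (Fin 4) (Fin 4) F) (X - C ω) = 4 :=
    fun z hzG hz => by
    have s := kdim_sum _ hco (hann z hz)
    rw [Fin.sum_univ_three, hτ, Fintype.card_fin] at s
    change kdim _ (X - C (1 : F)) + kdim _ (X - C ω) + kdim _ (X - C (ω ^ 2)) = 4 at s
    rw [hsym z hzG] at s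
    omega
  refine ⟨fun x hxG hx => ⟨_, hsum x hxG hx⟩, fun x y hxG hyG hx hy h => conj_of_kdim _ hco (hann x hx) (hann y hy) fun j => ?_⟩
  have s1 := hsum x hxG hx
  have s2 := hsum y hyG hy
  have q1 := hsym x hxG
  have q2 := hsym y hyG
  rw [hτ]
  fin_cases j
  · exact h
  · show kdim _ (X - C ω) = kdim _ (X - C ω)
    omega
  · show kdim _ (X - C (ω ^ 2)) = kdim _ (X - C (ω ^ 2))
    omega

theorem isSquare_of_pow_eq (hF : Fintype.card F = p ^ 2) (hp : Odd p) (h2 : ringChar F ≠ 2) {a : F} (ha : a ^ p = a) :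
    IsSquare a := by
  rcases eq_or_ne a 0 with rfl | ha0
  · exact IsSquare.zero
  refine (FiniteField.isSquare_iff h2 ha0).2 ?_
  have h1 : a ^ (p - 1) = 1 := by
    refine mul_right_cancel₀ ha0 ?_
    rw [← pow_succ, Nat.sub_add_cancel hp.pos, ha, one_mul]
  obtain ⟨k, rfl⟩ := hp
  rw [hF, show (2 * k + 1) ^ 2 / 2 = (2 * k + 1 - 1) * (k + 1) by
    rw [Nat.add_sub_cancel, show (2 * k + 1) ^ 2 = 1 + 2 * (2 * k * (k + 1)) by ring,
      Nat.add_mul_div_left _ _ two_pos]; simp, pow_mul, h1, one_pow]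

/-- Elements of order five of the unitary group. -/
theorem class_five_unitary (hF : Fintype.card F = p ^ 2) (hp : Odd p) (h2 : ringChar F ≠ 2) (h5 : (5 : F) ≠ 0)
    (hd : Nat.Coprime 5 (p ^ 2 - 1)) :
    ∀ x y : GL (Fin 4) F, x ∈ Cfsg.GU 4 F p → y ∈ Cfsg.GU 4 F p → x ^ 5 = 1 → y ^ 5 = 1 → x ≠ 1 → y ≠ 1 →
      ∃ g : GL (Fin 4) F, g * x = y * g := by
  obtain ⟨σ, hσ, -, -⟩ := exists_qPow hF
  have h20 : (2 : F) ≠ 0 := Ring.two_ne_zero h2
  have noroot : ∀ s a : F, s * s + s = 1 → a * a + -s * a + 1 ≠ 0 := by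
    intro s a hs ha
    have ha5 : a ^ 5 = 1 := by
      have : a ^ 4 + a ^ 3 + a ^ 2 + a + 1 = 0 := by
        linear_combination (a ^ 2 + (1 + s) * a + 1) * ha + a ^ 2 * hs
      linear_combination (a - 1) * this
    have ha0 : a ≠ 0 := fun h => by simp [h] at ha5
    have ha' : a ^ (p ^ 2 - 1) = 1 := hF ▸ FiniteField.pow_card_sub_one_eq_one a ha0
    have h1 := pow_gcd_eq_one.2 ⟨ha5, ha'⟩
    rw [hd.gcd_eq_one, pow_one] at h1
    rw [h1] at ha
    exact h5 (by linear_combination hs + (s + 3) * ha)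
  obtain ⟨r, hr⟩ := isSquare_of_pow_eq hF hp h2 (a := (5 : F)) (by rw [← hσ, map_ofNat])
  obtain ⟨s, hs⟩ : ∃ s : F, s * s + s = 1 := ⟨(r - 1) / 2, by field_simp; linear_combination -hr⟩
  have hs' : (-1 - s) * (-1 - s) + (-1 - s) = 1 := by linear_combination hs
  have hsp : s ^ p = -1 - s := by
    have h1 : σ s * σ s + σ s = 1 := by rw [← map_mul, ← map_add, hs, map_one]
    have h2' : (σ s - s) * (σ s - (-1 - s)) = 0 := by linear_combination h1 - hs
    rcases mul_eq_zero.1 h2' with h | h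
    · exfalso
      obtain ⟨t, ht⟩ := isSquare_of_pow_eq hF hp h2 (a := s * s - 4) (by
        rw [← hσ, map_sub, map_mul, sub_eq_zero.1 h, map_ofNat])
      exact noroot s ((s + t) / 2) hs (by field_simp; linear_combination -ht)
    · rw [← hσ]; exact sub_eq_zero.1 h
  obtain ⟨i1, d1⟩ := irreducible_quad (b := -s) (c := (1 : F)) fun a => noroot s a hs
  obtain ⟨i2, d2⟩ := irreducible_quad (b := -(-1 - s)) (c := (1 : F)) fun a => noroot _ a hs'
  obtain ⟨A, hA⟩ : ∃ A : F[X], A = X ^ 2 + C (-s) * X + C 1 := ⟨_, rfl⟩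
  obtain ⟨B, hB⟩ : ∃ B : F[X], B = X ^ 2 + C (-(-1 - s)) * X + C 1 := ⟨_, rfl⟩
  rw [← hA] at i1 d1
  rw [← hB] at i2 d2
  obtain ⟨P, hP⟩ : ∃ P : Fin 3 → F[X], P = ![X - C 1, A, B] := ⟨_, rfl⟩
  haveI hfA : Fact (Irreducible A) := ⟨i1⟩
  haveI : ∀ j, Fact (Irreducible (P j)) := fun j => ⟨by
    fin_cases j <;> rw [hP]
    · exact irreducible_X_sub_C 1
    · exact i1
    · exact i2⟩
  have cA : IsCoprime (X - C (1 : F)) A := by
    refine (irreducible_X_sub_C (1 : F)).coprime_iff_not_dvd.2 fun hd' => ?_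
    rw [dvd_iff_isRoot, IsRoot, hA] at hd'
    simp at hd'
    exact noroot s 1 hs (by linear_combination hd')
  have cB : IsCoprime (X - C (1 : F)) B := by
    refine (irreducible_X_sub_C (1 : F)).coprime_iff_not_dvd.2 fun hd' => ?_
    rw [dvd_iff_isRoot, IsRoot, hB] at hd'
    simp at hd'
    exact noroot _ 1 hs' (by linear_combination hd')
  have cAB : IsCoprime A B := by
    refine i1.coprime_iff_not_dvd.2 fun hd' => ?_
    have h := eq_of_monic_of_associated (by rw [hA]; monicity!) (by rw [hB]; monicity!) (i1.associated_of_dvd i2 hd')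
    have h1 := congrArg (fun Q => Polynomial.coeff Q 1) h
    simp [hA, hB, coeff_X, coeff_one] at h1
    exact h5 (by linear_combination (-4) * hs - (2 * s + 1) * h1)
  have hco : Pairwise (Function.onFun IsCoprime P) := fun i j hij => by
    fin_cases i <;> fin_cases j <;> first
      | exact absurd rfl hij
      | (rw [hP]; exact cA) | (rw [hP]; exact cA.symm) | (rw [hP]; exact cB) | (rw [hP]; exact cB.symm)
      | (rw [hP]; exact cAB) | (rw [hP]; exact cAB.symm)
  have hann : ∀ z : GL (Fin 4) F, z ^ 5 = 1 → aeval (z : Matrix (Fin 4) (Fin 4) F) (∏ j, P j) = 0 := fun z hz => by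
    rw [Fin.prod_univ_three, hP, ← ann_five hz]
    congr 1
    show (X - C (1 : F)) * A * B = _
    have e2 : C s * C s + C s = (1 : F[X]) := by rw [← map_mul, ← map_add, hs, map_one]
    rw [hA, hB]
    simp only [map_neg, map_sub, map_one]
    linear_combination (-(X - 1) * X ^ 2) * e2
  have hsym : ∀ x : GL (Fin 4) F, x ∈ Cfsg.GU 4 F p →
      kdim (x : Matrix (Fin 4) (Fin 4) F) B = kdim (x : Matrix (Fin 4) (Fin 4) F) A := by
    intro x hx
    obtain ⟨M, hM⟩ : ∃ M, M = aeval (x : Matrix (Fin 4) (Fin 4) F) A := ⟨_, rfl⟩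
    rw [kdim, kdim, ← hM, ← ker_starQ hF M]
    have hinv : ((x⁻¹ : GL (Fin 4) F) : Matrix (Fin 4) (Fin 4) F) * x = 1 := by
      rw [← Units.val_mul, inv_mul_cancel, Units.val_one]
    have e : GUConj.starQ p M =
        (((x⁻¹ : GL (Fin 4) F) : Matrix (Fin 4) (Fin 4) F) * ((x⁻¹ : GL (Fin 4) F) : Matrix (Fin 4) (Fin 4) F)) *
        aeval (x : Matrix (Fin 4) (Fin 4) F) B := by
      have e1 : (-s) ^ p = -(-1 - s) := by rw [← hσ, map_neg, hσ, hsp]
      obtain ⟨Y, hY⟩ : ∃ Y, Y = ((x⁻¹ : GL (Fin 4) F) : Matrix (Fin 4) (Fin 4) F) := ⟨_, rfl⟩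
      rw [← hY] at hinv
      rw [hM, hA, hB]
      simp only [map_add, map_mul, map_pow, aeval_X, aeval_C, Algebra.algebraMap_eq_smul_one, smul_mul_assoc, one_mul,
        one_smul, pow_two, GUConj.starQ_add hF, GUConj.starQ_mul hF, starQ_smul hF, starQ_val hF hx,
        GUConj.starQ_one hF, one_pow, e1, ← hY]
      rw [mul_add, mul_add, mul_one, mul_smul_comm, mul_assoc Y Y, ← mul_assoc Y (x : Matrix (Fin 4) (Fin 4) F), hinv,
        one_mul, hinv, mul_assoc Y Y, hinv, mul_one]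
      abel
    have hb : LinearMap.ker (Matrix.toLin' (((x⁻¹ : GL (Fin 4) F) : Matrix (Fin 4) (Fin 4) F) *
        ((x⁻¹ : GL (Fin 4) F) : Matrix (Fin 4) (Fin 4) F))) = ⊥ :=
      LinearMap.ker_eq_bot.2 fun a b hab => by
        simp only [Matrix.toLin'_apply] at hab
        exact Matrix.mulVec_injective_iff_isUnit.2 ((x⁻¹).isUnit.mul (x⁻¹).isUnit) hab
    rw [e, Matrix.toLin'_mul, LinearMap.ker_comp, hb, Submodule.comap_bot]
  have key : ∀ z : GL (Fin 4) F, z ∈ Cfsg.GU 4 F p → z ^ 5 = 1 → z ≠ 1 → ∀ j,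
      kdim (z : Matrix (Fin 4) (Fin 4) F) (P j) = ![0, 2, 2] j := fun z hzG hz hz1 => by
    have s' := kdim_sum P hco (hann z hz)
    rw [Fin.sum_univ_three, hP, Fintype.card_fin] at s'
    change kdim _ (X - C (1 : F)) + kdim _ A + kdim _ B = 4 at s'
    have q := hsym z hzG
    obtain ⟨c, hc'⟩ := kdim_dvd (z : Matrix (Fin 4) (Fin 4) F) A
    rw [d1] at hc'
    have : kdim (z : Matrix (Fin 4) (Fin 4) F) (X - C 1) ≠ 4 := fun h => hz1 (eq_one_of_kdim (h.trans (Fintype.card_fin 4).symm))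
    intro j
    rw [hP]
    fin_cases j
    · show kdim _ (X - C (1 : F)) = 0; omega
    · show kdim _ A = 2; omega
    · show kdim _ B = 2; omega
  exact fun x y hxG hyG hx hy hx1 hy1 => conj_of_kdim P hco (hann x hx) (hann y hy) fun j =>
    (key x hxG hx hx1 j).trans (key y hyG hy hy1 j).symm

end Unitary

end CfsgLib.Classical22.SympTypeFour
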