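/-
From conjugacy in the general linear group to conjugacy in the special linear, unitary and symplectic groups.
-/
import Cfsg.Prelude.Def_ClassicalGeometry
import Cfsg.Agent.Lib.Classical.UnitarySemisimple
import Cfsg.Agent.Lib.Classical22.PrimeSubfieldDescent
import Cfsg.Agent.Lib.Classical.SpBasic
import Cfsg.Agent.Lib.Classical.SpSimple
import Cfsg.Agent.S2589

set_option autoImplicit false

namespace CfsgLib.Classical22.SympTypeFour

open Matrix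

variable {F : Type*} [Field F] [Fintype F]

theorem mem_sl_iff {ι : Type} [Fintype ι] [DecidableEq ι] {g : GL ι F} :
    g ∈ Cfsg.Geo.specialLinear ι F ↔ (g : Matrix ι ι F).det = 1 := by
  rw [Cfsg.Geo.specialLinear, MonoidHom.mem_ker, Units.ext_iff, Matrix.GeneralLinearGroup.val_det_apply, Units.val_one]

theorem sl_conj_of_gl {n m : ℕ} (hn : 0 < n) (hm : (m : F) ≠ 0) {x y g : GL (Fin n) F} (hx : x ^ m = 1)
    (hg : g * y = x * g) : ∃ h ∈ Cfsg.Geo.specialLinear (Fin n) F, h⁻¹ * x * h = y := by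
  have hm0 : 0 < m := Nat.pos_of_ne_zero fun h => hm (by simp [h])
  obtain ⟨C, hC, hCd⟩ := CfsgLib.Classical22.SubfieldDescent.exists_det_centralizer (r := m) hn hm0 hm one_ne_zero
    (A := (x : Matrix (Fin n) (Fin n) F)) (by rw [← Units.val_pow_eq_pow_val, hx, Units.val_one, one_smul])
    (Matrix.GeneralLinearGroup.det g)⁻¹
  have hC' : C * x = x * C := Units.ext hC
  refine ⟨C * g, ?_, ?_⟩
  · rw [Cfsg.Geo.specialLinear, MonoidHom.mem_ker, map_mul, hCd, inv_mul_cancel]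
  · rw [mul_assoc, inv_mul_eq_iff_eq_mul, mul_assoc C, hg, ← mul_assoc, ← hC', mul_assoc]

theorem norm_one_eq_div {q : ℕ} (hF : Fintype.card F = q ^ 2) {d : F} (hd : d ^ (q + 1) = 1) :
    ∃ a : F, a ≠ 0 ∧ a / a ^ q = d := by
  classical
  have hq := CfsgLib.Classical.two_le_q hF
  obtain ⟨g, hg⟩ := IsCyclic.exists_ofOrder_eq_natCard (α := Fˣ)
  rw [Nat.card_eq_fintype_card, Fintype.card_units, hF] at hg
  have hd0 : d ≠ 0 := fun h => by simp [h] at hd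
  obtain ⟨k, hk⟩ : ∃ k : ℕ, g ^ k = Units.mk0 d hd0 := by
    obtain ⟨k, hk⟩ := (IsCyclic.exists_generator (α := Fˣ))
    refine (Submonoid.mem_powers_iff _ _).1 (mem_powers_iff_mem_zpowers.2 ?_)
    have : Subgroup.zpowers g = ⊤ := by
      apply Subgroup.eq_top_of_card_eq
      rw [Nat.card_zpowers, hg, Nat.card_eq_fintype_card, Fintype.card_units, hF]
    rw [this]; trivial
  have h1 : g ^ (k * (q + 1)) = 1 := by
    rw [pow_mul, hk]; exact Units.ext (by simpa using hd)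
  have hdvd := orderOf_dvd_of_pow_eq_one h1
  rw [hg, show q ^ 2 - 1 = (q - 1) * (q + 1) by
    obtain ⟨t, rfl⟩ : ∃ t, q = t + 1 := ⟨q - 1, by omega⟩
    simp; ring_nf; omega] at hdvd
  obtain ⟨j, hj⟩ := Nat.dvd_of_mul_dvd_mul_right (by omega) hdvd
  refine ⟨((g ^ j : Fˣ) : F)⁻¹, by simp, ?_⟩
  rw [inv_pow, div_inv_eq_mul, inv_mul_eq_iff_eq_mul₀ (by simp), ← Units.val_mk0 hd0, ← hk]
  simp only [← Units.val_pow_eq_pow_val, ← Units.val_mul, ← pow_mul, ← pow_add]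
  congr 2
  rw [hj]
  obtain ⟨t, rfl⟩ : ∃ t, q = t + 1 := ⟨q - 1, by omega⟩
  simp; ring

theorem gu_conj_of_gl {q n m : ℕ} (hF : Fintype.card F = q ^ 2) (hn : 0 < n) (hm : (m : F) ≠ 0)
    {x y g : GL (Fin n) F} (hxG : x ∈ Cfsg.GU n F q) (hyG : y ∈ Cfsg.GU n F q) (hx : x ^ m = 1) (hg : g * y = x * g) :
    ∃ h ∈ Cfsg.GU n F q ⊓ Cfsg.Geo.specialLinear (Fin n) F, h⁻¹ * x * h = y := by
  obtain ⟨c, hc⟩ := isConj_iff.1 ((CfsgLib.Classical.GUConj.isConj_iff_gl hF ⟨y, hyG⟩ ⟨x, hxG⟩).2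
    (isConj_iff.2 ⟨g, mul_inv_eq_iff_eq_mul.2 hg⟩))
  have hc' : (c : GL (Fin n) F) * y * (c : GL (Fin n) F)⁻¹ = x := congrArg Subtype.val hc
  obtain ⟨d, hd⟩ : ∃ d, d = (((c : GL (Fin n) F)⁻¹ : GL (Fin n) F) : Matrix (Fin n) (Fin n) F).det := ⟨_, rfl⟩
  have hdn : d ^ (q + 1) = 1 := hd ▸ CfsgLib.Classical22.UnitaryThree.det_norm_one hF (inv_mem c.2)
  obtain ⟨a, ha, had⟩ := norm_one_eq_div hF hdn
  obtain ⟨σ, hσ, -, -⟩ := CfsgLib.Classical.exists_qPow hF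
  obtain ⟨z, hz, hzx, hzd⟩ := CfsgLib.Classical.SUSemisimple.exists_gu_commute_det σ hF hσ hn hxG hm hx ha
  refine ⟨z * c, ⟨mul_mem hz c.2, mem_sl_iff.2 ?_⟩, ?_⟩
  · rw [Units.val_mul, Matrix.det_mul, hzd, had, hd, ← Matrix.det_mul, ← Units.val_mul, inv_mul_cancel,
      Units.val_one, Matrix.det_one]
  · have h1 : z⁻¹ * x * z = x := by rw [mul_assoc, ← hzx, ← mul_assoc, inv_mul_cancel, one_mul]
    calc (z * c)⁻¹ * x * (z * c) = (c : GL (Fin n) F)⁻¹ * (z⁻¹ * x * z) * c := by group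
      _ = y := by rw [h1, ← hc']; group

theorem sp_conj_of_gl {p : ℕ} [Fact p.Prime] [CharP F p] {n m : ℕ} (hm : (m : F) ≠ 0)
    {x y g : GL (Fin n ⊕ Fin n) F} (hxG : x ∈ Cfsg.spGL n F) (hyG : y ∈ Cfsg.spGL n F) (hx : x ^ m = 1)
    (hg : g * y = x * g) : ∃ h ∈ Cfsg.spGL n F, h⁻¹ * x * h = y := by
  obtain ⟨A, hA⟩ : ∃ A : Matrix.symplecticGroup (Fin n) F, (A : Matrix (Fin n ⊕ Fin n) (Fin n ⊕ Fin n) F) = x :=
    ⟨⟨_, CfsgLib.Classical.mem_sp_iff.2 hxG⟩, rfl⟩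
  obtain ⟨B, hB⟩ : ∃ B : Matrix.symplecticGroup (Fin n) F, (B : Matrix (Fin n ⊕ Fin n) (Fin n ⊕ Fin n) F) = y :=
    ⟨⟨_, CfsgLib.Classical.mem_sp_iff.2 hyG⟩, rfl⟩
  have hAm : A ^ m = 1 := Subtype.ext (by
    rw [SubmonoidClass.coe_pow, hA, ← Units.val_pow_eq_pow_val, hx, Units.val_one]; rfl)
  have hco : (orderOf A).Coprime p := by
    refine Nat.Coprime.coprime_dvd_left (orderOf_dvd_of_pow_eq_one hAm) ?_
    rw [Nat.coprime_comm, (Fact.out : p.Prime).coprime_iff_not_dvd]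
    exact fun h => hm ((CharP.cast_eq_zero_iff F p m).2 h)
  obtain ⟨k, hk⟩ := isConj_iff.1 ((Cfsg.Agent.S2589.result (p := p) A B hco).2 ⟨g⁻¹, by
    show ((g⁻¹ : GL (Fin n ⊕ Fin n) F) : Matrix (Fin n ⊕ Fin n) (Fin n ⊕ Fin n) F) * _ = _ * _
    rw [hA, hB, ← Units.val_mul, ← Units.val_mul]
    congr 1
    rw [inv_mul_eq_iff_eq_mul, ← mul_assoc, hg, mul_inv_cancel_right]⟩)
  refine ⟨(CfsgLib.Classical.spToSpGL k : GL (Fin n ⊕ Fin n) F)⁻¹,
    inv_mem (CfsgLib.Classical.spToSpGL k).2, ?_⟩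
  rw [inv_inv, mul_inv_eq_iff_eq_mul]
  refine Units.ext ?_
  have h1 : k * A = B * k := mul_inv_eq_iff_eq_mul.1 hk
  rw [Units.val_mul, Units.val_mul, ← hA, ← hB]
  exact congrArg Subtype.val h1

end CfsgLib.Classical22.SympTypeFour
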