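/-
Elements of prime order which are not conjugate into the normaliser of a group of symplectic type.
-/
import Cfsg.Agent.Lib.Classical22.SympTypeFour.Normal

set_option autoImplicit false

namespace CfsgLib.Classical22.SympTypeFour

open Matrix

variable {ι : Type} [Fintype ι] [DecidableEq ι] {F : Type*} [Field F] [Fintype F] {R G : Subgroup (GL ι F)}

theorem conj_facts {x k : GL ι F} (hns : ∀ c : F, (x : Matrix ι ι F) ≠ c • 1) (r : ℕ) (hx : x ^ r = 1) :
    (k⁻¹ * x * k) ^ r = 1 ∧ (∀ c : F, ((k⁻¹ * x * k : GL ι F) : Matrix ι ι F) ≠ c • 1) ∧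
      Matrix.trace ((k⁻¹ * x * k : GL ι F) : Matrix ι ι F) = Matrix.trace (x : Matrix ι ι F) ∧
      Matrix.trace (((k⁻¹ * x * k)⁻¹ : GL ι F) : Matrix ι ι F) = Matrix.trace ((x⁻¹ : GL ι F) : Matrix ι ι F) := by
  refine ⟨?_, fun c hc => ?_, ?_, ?_⟩
  · have := conj_pow (a := k⁻¹) (b := x) (i := r)
    rw [inv_inv, hx] at this
    rw [this]
    group
  · refine hns c ?_
    have h1 : x = k⁻¹ * x * k := by
      calc x = k * (k⁻¹ * x * k) * k⁻¹ := by group
        _ = _ := by rw [← scalar_comm hc k, mul_inv_cancel_right]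
    rw [h1]; exact hc
  · have := trace_conj k⁻¹ (x : Matrix ι ι F)
    rwa [inv_inv, ← Units.val_mul, ← Units.val_mul] at this
  · rw [show (k⁻¹ * x * k)⁻¹ = k⁻¹ * x⁻¹ * k by group]
    have := trace_conj k⁻¹ ((x⁻¹ : GL ι F) : Matrix ι ι F)
    rwa [inv_inv, ← Units.val_mul, ← Units.val_mul] at this

/-- Large primes. -/
theorem exists_bad_large [Nonempty ι] (h2 : (2 : F) ≠ 0) (hι : Fintype.card ι = 4) (hS : Setting R)
    (hZ : Nat.card (Subgroup.center R) ∣ 4) {r : ℕ} [hr : Fact r.Prime] (h5 : 5 < r)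
    (hdet : ∀ x ∈ G, (x : Matrix ι ι F).det = 1)
    (hΩ : r ∣ (Cfsg.Geo.subgroupNormalizer R).relIndex G) :
    ∃ x ∈ G, x ^ r = 1 ∧ (∀ c : F, (x : Matrix ι ι F) ≠ c • 1) ∧
      ∀ k : GL ι F, k⁻¹ * x * k ∉ Cfsg.Geo.subgroupNormalizer R := by
  have hd : r ∣ Nat.card G := hΩ.trans (Subgroup.index_dvd_card _)
  obtain ⟨g, hg⟩ := exists_prime_orderOf_dvd_card' r hd
  have hgr : (g : GL ι F) ^ r = 1 := by
    rw [← SubmonoidClass.coe_pow, ← hg, pow_orderOf_eq_one, OneMemClass.coe_one]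
  have hns : ∀ c : F, ((g : GL ι F) : Matrix ι ι F) ≠ c • 1 := fun c hc => by
    have h4 : c ^ 4 = 1 := by
      have := hdet g g.2
      rwa [hc, Matrix.det_smul, Matrix.det_one, mul_one, hι] at this
    have hg4 : (g : GL ι F) ^ 4 = 1 := Units.ext (by
      rw [Units.val_pow_eq_pow_val, hc, smul_pow, one_pow, h4, one_smul, Units.val_one])
    have h1 : orderOf g ∣ 4 := orderOf_dvd_of_pow_eq_one (Subtype.ext (by simpa using hg4))
    rw [hg] at h1
    have := Nat.le_of_dvd (by norm_num) h1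
    omega
  refine ⟨g, g.2, hgr, hns, fun k hk => ?_⟩
  obtain ⟨h1, h2', -, -⟩ := conj_facts (k := k) hns r hgr
  exact no_large h2 hι hS hZ (conj_mem_of_normalizer hk) h5 h1 h2'

/-- A trace excludes an element. -/
theorem bad_trace [Nonempty ι] (h2 : (2 : F) ≠ 0) (hι : Fintype.card ι = 4) (hS : Setting R)
    (hZ : Nat.card (Subgroup.center R) ∣ 4) {r : ℕ} [Fact r.Prime] (hr : Odd r) {x : GL ι F} (hx : x ^ r = 1)
    (hns : ∀ c : F, (x : Matrix ι ι F) ≠ c • 1)
    (hbad : ∀ f ∈ ({1, 2, 4, 8} : Finset ℕ), 16 % r = f % r →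
      Matrix.trace (x : Matrix ι ι F) * Matrix.trace ((x⁻¹ : GL ι F) : Matrix ι ι F) ≠ f) (k : GL ι F) :
    k⁻¹ * x * k ∉ Cfsg.Geo.subgroupNormalizer R := fun hk => by
  obtain ⟨h1, h2', h3, h4⟩ := conj_facts (k := k) hns r hx
  obtain ⟨f, hf, hfr, -, hft⟩ := fixed_facts h2 hι hS hZ (conj_mem_of_normalizer hk) hr h1 h2'
  rw [h3, h4] at hft
  exact hbad f hf hfr hft

/-- Transvections are excluded. -/
theorem bad_transvection [Nonempty ι] (h2 : (2 : F) ≠ 0) (hι : Fintype.card ι = 4) (hS : Setting R) {p : ℕ}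
    [Fact p.Prime] [CharP F p] (hp2 : p ≠ 2) {x : GL ι F} (hxp : x ^ p = 1)
    (hns : ∀ c : F, (x : Matrix ι ι F) ≠ c • 1) {l : ι → F}
    (hl : ∀ v, ∃ t : F, (x : Matrix ι ι F) *ᵥ v = v + t • l) (hxl : (x : Matrix ι ι F) *ᵥ l = l) (k : GL ι F) :
    k⁻¹ * x * k ∉ Cfsg.Geo.subgroupNormalizer R := fun hk => by
  obtain ⟨h1, h2', -, -⟩ := conj_facts (k := k) hns p hxp
  have hkk : ∀ v, (k : Matrix ι ι F) *ᵥ (((k⁻¹ : GL ι F) : Matrix ι ι F) *ᵥ v) = v := fun v => by
    rw [mulVec_mulVec, ← Units.val_mul, mul_inv_cancel, Units.val_one, one_mulVec]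
  refine no_transvection h2 hι hS hp2 (conj_mem_of_normalizer hk) h1 h2'
    (l := ((k⁻¹ : GL ι F) : Matrix ι ι F) *ᵥ l) (fun v => ?_) ?_
  · obtain ⟨t, ht⟩ := hl ((k : Matrix ι ι F) *ᵥ v)
    refine ⟨t, ?_⟩
    rw [Units.val_mul, Units.val_mul, ← mulVec_mulVec, ← mulVec_mulVec, ht, mulVec_add, mulVec_smul, mulVec_mulVec _
      _ (k : Matrix ι ι F), ← Units.val_mul, inv_mul_cancel, Units.val_one, one_mulVec]
  · rw [Units.val_mul, Units.val_mul, ← mulVec_mulVec, ← mulVec_mulVec, hkk, hxl]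

/-- In the minus type no element of order three fixes only the centre. -/
theorem bad_three_minus [Nonempty ι] (h2 : (2 : F) ≠ 0) (h3 : (3 : F) ≠ 0) (hι : Fintype.card ι = 4) (hS : Setting R)
    (hm : Cfsg.Geo.IsOfMinusType 2 R) (hZ : Nat.card (Subgroup.center R) = 2) {x : GL ι F} (hx : x ^ 3 = 1)
    (hns : ∀ c : F, (x : Matrix ι ι F) ≠ c • 1)
    (htr : Matrix.trace (x : Matrix ι ι F) * Matrix.trace ((x⁻¹ : GL ι F) : Matrix ι ι F) = 1) (k : GL ι F) :
    k⁻¹ * x * k ∉ Cfsg.Geo.subgroupNormalizer R := fun hk => by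
  haveI : Fact (Nat.Prime 3) := ⟨Nat.prime_three⟩
  obtain ⟨h1, h2', e1, e2⟩ := conj_facts (k := k) hns 3 hx
  obtain ⟨y, hy⟩ : ∃ y, y = k⁻¹ * x * k := ⟨_, rfl⟩
  rw [← hy] at hk h1 h2' e1 e2
  have hyR := conj_mem_of_normalizer hk
  obtain ⟨f, hf, hfr, hfC, hft⟩ := fixed_facts h2 hι hS (by rw [hZ]; norm_num) hyR (by decide) h1 h2'
  rw [e1, e2, htr] at hft
  have hf1 : f = 1 := by
    fin_cases hf
    · rfl
    · simp at hfr
    · exact absurd (by push_cast at hft; linear_combination -hft) h3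
    · simp at hfr
  rw [hf1, one_mul, hZ] at hfC
  have hC : ∀ a ∈ R, y * a = a * y → a = 1 ∨ a = -1 := by
    intro a ha hya
    obtain ⟨C, hCd⟩ : ∃ C, C = R ⊓ Subgroup.centralizer {y} := ⟨_, rfl⟩
    rw [← hCd] at hfC
    have haC : a ∈ C := hCd ▸ ⟨ha, Subgroup.mem_centralizer_singleton_iff.2 hya.symm⟩
    have hnC : -1 ∈ C := hCd ▸ ⟨hS.neg, Subgroup.mem_centralizer_singleton_iff.2 (by simp)⟩
    obtain ⟨u, -, hu⟩ := (Nat.card_eq_two_iff' (1 : C)).1 hfC
    by_contra hcon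
    push Not at hcon
    have e := (hu ⟨a, haC⟩ fun h => hcon.1 (congrArg Subtype.val h)).trans
      (hu ⟨-1, hnC⟩ fun h => neg_one_ne h2 (congrArg Subtype.val h)).symm
    exact hcon.2 (congrArg Subtype.val e)
  obtain ⟨a, b, c, d, hP, ha2, -, -, -⟩ := exists_frame_of_minus h2 hS hm
  have hna : ∀ a b : GL ι F, a * b = -(b * a) → a ≠ 1 ∧ a ≠ -1 := fun a b hab => by
    constructor <;> rintro rfl
    · rw [one_mul, mul_one] at hab; exact neg_ne_self h2 _ hab.symm
    · rw [neg_one_mul, mul_neg_one, neg_neg] at hab; exact neg_ne_self h2 _ hab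
  have hy3 : y * y * y = 1 := by rw [← pow_two, ← pow_succ]; exact h1
  have hanti : ∀ p ∈ R, p * p = 1 → p ≠ 1 → p ≠ -1 → p * (y * p * y⁻¹) = -(y * p * y⁻¹ * p) := by
    intro p hp hp2 hp1 hp1'
    obtain ⟨q, hq⟩ : ∃ q, q = y * p * y⁻¹ := ⟨_, rfl⟩
    rw [← hq]
    have hqR : q ∈ R := hq ▸ hyR p hp
    have hq2 : q * q = 1 := by
      rw [hq, show y * p * y⁻¹ * (y * p * y⁻¹) = y * (p * p) * y⁻¹ by group, hp2, mul_one, mul_inv_cancel]
    refine (hS.comm p hp q hqR).resolve_left fun hpq => ?_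
    have hqp : q ≠ p := fun h => by
      rcases hC p hp (mul_inv_eq_iff_eq_mul.1 (hq.symm.trans h)) with e | e
      · exact hp1 e
      · exact hp1' e
    have hqnp : q ≠ -p := fun h => hqp (by
      have h' : y * q * y⁻¹ = p := by rw [h, mul_neg, neg_mul, ← hq, h, neg_neg]
      calc q = y * p * y⁻¹ := hq
        _ = y * (y * q * y⁻¹) * y⁻¹ := by rw [h']
        _ = y * y * y * p * (y * y * y)⁻¹ := by rw [hq]; group
        _ = p := by rw [hy3, one_mul, inv_one, mul_one])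
    have hq1 : q ≠ 1 ∧ q ≠ -1 := by
      constructor <;> intro h
      · refine hp1 ?_
        rw [hq, mul_inv_eq_one] at h
        exact mul_left_cancel (h.trans (mul_one y).symm)
      · refine hp1' ?_
        rw [hq, mul_inv_eq_iff_eq_mul, neg_one_mul] at h
        exact mul_left_cancel (h.trans (by rw [mul_neg_one]))
    obtain ⟨A, hA⟩ : ∃ A : Subgroup R, A = Subgroup.closure {⟨-1, hS.neg⟩, ⟨p, hp⟩, ⟨q, hqR⟩} := ⟨_, rfl⟩
    have hgc : ∀ u ∈ ({⟨-1, hS.neg⟩, ⟨p, hp⟩, ⟨q, hqR⟩} : Set R),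
        ∀ v ∈ ({⟨-1, hS.neg⟩, ⟨p, hp⟩, ⟨q, hqR⟩} : Set R), u * v = v * u := by
      intro u hu v hv
      apply Subtype.ext
      rcases hu with rfl | rfl | rfl <;> rcases hv with rfl | rfl | rfl <;> simp [hpq]
    haveI hAc : IsMulCommutative A := hA ▸ Subgroup.isMulCommutative_closure hgc
    have hA2 : ∀ u ∈ A, u * u = 1 := by
      intro u hu
      have hcomm : ∀ u ∈ A, ∀ v ∈ A, u * v = v * u := fun u hu v hv =>
        congrArg Subtype.val (mul_comm' (⟨u, hu⟩ : A) ⟨v, hv⟩)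
      rw [hA] at hu
      induction hu using Subgroup.closure_induction with
      | mem u hu => rcases hu with rfl | rfl | rfl <;> apply Subtype.ext <;> simp [hp2, hq2]
      | one => simp
      | mul u v hu hv ihu ihv =>
        rw [mul_assoc, ← mul_assoc v u v, ← hcomm u (hA ▸ hu) v (hA ▸ hv), mul_assoc u v v, ihv, mul_one, ihu]
      | inv u _ ihu => rw [← _root_.mul_inv_rev, ihu, inv_one]
    have hlt := hm A hAc hA2
    have hdvd : Nat.card A ∣ 32 := by
      have := Subgroup.card_subgroup_dvd_card A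
      rwa [hS.card, hZ] at this
    have hmem : ∀ u : R, u ∈ ({⟨-1, hS.neg⟩, ⟨p, hp⟩, ⟨q, hqR⟩} : Set R) → u ∈ A :=
      fun u hu => hA ▸ Subgroup.subset_closure hu
    have hin : ∀ i : Fin 5, ∃ hi : (![1, -1, p, q, -p] i) ∈ R, (⟨_, hi⟩ : R) ∈ A := by
      intro i
      fin_cases i
      · exact ⟨one_mem R, A.one_mem⟩
      · exact ⟨hS.neg, hmem _ (by simp)⟩
      · exact ⟨hp, hmem _ (by simp)⟩
      · exact ⟨hqR, hmem _ (by simp)⟩
      · refine ⟨by show -p ∈ R; rw [← neg_one_mul]; exact mul_mem hS.neg hp, ?_⟩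
        have := A.mul_mem (hmem ⟨-1, hS.neg⟩ (by simp)) (hmem ⟨p, hp⟩ (by simp))
        convert this using 1
        exact Subtype.ext (neg_one_mul p).symm
    choose hi hi' using hin
    have hinj : Function.Injective fun i : Fin 5 => (⟨⟨_, hi i⟩, hi' i⟩ : A) := by
      intro i j h
      have h' : ![1, -1, p, q, -p] i = ![1, -1, p, q, -p] j := congrArg (fun u : A => ((u : R) : GL ι F)) h
      have n1 := neg_one_ne (ι := ι) h2
      have n2 : p ≠ -p := fun h => neg_ne_self h2 p h.symm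
      have n3 : (1 : GL ι F) ≠ -p := fun h => hp1' (neg_eq_iff_eq_neg.1 h.symm)
      have n4 : (-1 : GL ι F) ≠ -p := fun h => hp1 (neg_inj.1 h).symm
      fin_cases i <;> fin_cases j <;>
        first
          | rfl
          | exact absurd h' n1.symm | exact absurd h' n1
          | exact absurd h' hp1.symm | exact absurd h' hp1
          | exact absurd h' hq1.1.symm | exact absurd h' hq1.1
          | exact absurd h' n3 | exact absurd h' n3.symm
          | exact absurd h' hp1'.symm | exact absurd h' hp1'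
          | exact absurd h' hq1.2.symm | exact absurd h' hq1.2
          | exact absurd h' n4 | exact absurd h' n4.symm
          | exact absurd h' hqp.symm | exact absurd h' hqp
          | exact absurd h' n2 | exact absurd h' n2.symm
          | exact absurd h' hqnp | exact absurd h' hqnp.symm
    have h5 : 5 ≤ Nat.card A := by simpa using Nat.card_le_card_of_injective _ hinj
    norm_num at hlt
    interval_cases hcA : Nat.card A <;> norm_num at hdvd
  obtain ⟨a', ha'⟩ : ∃ a', a' = y * a * y⁻¹ := ⟨_, rfl⟩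
  obtain ⟨a'', ha''⟩ : ∃ a'', a'' = y * a' * y⁻¹ := ⟨_, rfl⟩
  obtain ⟨na, na'⟩ := hna a b hP.ab
  have haR' : a' ∈ R := ha' ▸ hyR a hP.ha
  have haR'' : a'' ∈ R := ha'' ▸ hyR a' haR'
  have r1 : a * a' = -(a' * a) := ha' ▸ hanti a hP.ha ha2 na na'
  obtain ⟨na1, na1'⟩ := hna a' a (by rw [r1, neg_neg])
  have ha'2 : a' * a' = 1 := by
    rw [ha', show y * a * y⁻¹ * (y * a * y⁻¹) = y * (a * a) * y⁻¹ by group, ha2, mul_one, mul_inv_cancel]
  have r2 : a' * a'' = -(a'' * a') := ha'' ▸ hanti a' haR' ha'2 na1 na1'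
  obtain ⟨na2, na2'⟩ := hna a'' a' (by rw [r2, neg_neg])
  have ha''2 : a'' * a'' = 1 := by
    rw [ha'', show y * a' * y⁻¹ * (y * a' * y⁻¹) = y * (a' * a') * y⁻¹ by group, ha'2, mul_one, mul_inv_cancel]
  have hy'' : y * a'' * y⁻¹ = a := by
    rw [ha'', ha', show y * (y * (y * a * y⁻¹) * y⁻¹) * y⁻¹ = y * y * y * a * (y * y * y)⁻¹ by group, hy3, one_mul,
      inv_one, mul_one]
  have r3 : a'' * a = -(a * a'') := by
    have := hanti a'' haR'' ha''2 na2 na2'
    rwa [hy''] at this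
  obtain ⟨q, hq⟩ : ∃ q, q = a * a' * a'' := ⟨_, rfl⟩
  have hqfix : y * q = q * y := by
    refine mul_inv_eq_iff_eq_mul.1 ?_
    rw [hq, show y * (a * a' * a'') * y⁻¹ = y * a * y⁻¹ * (y * a' * y⁻¹) * (y * a'' * y⁻¹) by group, ← ha', ← ha'',
      hy'', mul_assoc a' a'' a, r3, mul_neg, ← mul_assoc, r1, neg_mul]
  have hqq : q * q = -1 := by
    rw [hq]
    calc a * a' * a'' * (a * a' * a'') = a * a' * (a'' * a) * (a' * a'') := by simp only [mul_assoc]
      _ = -(a * a' * a * a'' * (a' * a'')) := by rw [r3]; simp only [mul_neg, neg_mul, mul_assoc]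
      _ = -(-(a' * a * a) * a'' * (a' * a'')) := by rw [r1]; simp only [neg_mul, mul_assoc]
      _ = a' * a'' * (a' * a'') := by rw [mul_assoc a' a a, ha2, mul_one]; simp only [neg_mul, neg_neg]
      _ = -1 := by rw [sq_mul_anti r2, ha'2, ha''2, one_mul]
  rcases hC q (hq ▸ mul_mem (mul_mem hP.ha haR') haR'') hqfix with e | e <;> rw [e] at hqq
  · rw [one_mul] at hqq; exact neg_one_ne h2 hqq.symm
  · rw [neg_mul_neg, one_mul] at hqq; exact neg_one_ne h2 hqq.symm

end CfsgLib.Classical22.SympTypeFour
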