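/-
Elements of orders two, three and five which are conjugate into the normaliser of a group of symplectic type.
-/
import Cfsg.Agent.Lib.Classical22.SympTypeFour.Classes

set_option autoImplicit false

namespace CfsgLib.Classical22.SympTypeFour

open Matrix Polynomial

universe u

variable {ι : Type} [Fintype ι] [DecidableEq ι] {F : Type u} [Field F] [Fintype F] {R G : Subgroup (GL ι F)}

theorem scalar_normal {u : GL ι F} {c : F} (hu : (u : Matrix ι ι F) = c • 1) :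
    u ∈ Cfsg.Geo.subgroupNormalizer R :=
  normalizer_of_le fun a ha => by rw [scalar_comm hu, mul_inv_cancel_right]; exact ha

omit [Fintype F] in
theorem kdim_two_sum (h2 : (2 : F) ≠ 0) {t : GL ι F} (ht : t * t = 1) :
    kdim (t : Matrix ι ι F) (X - C 1) + kdim (t : Matrix ι ι F) (X + C 1) = Fintype.card ι := by
  obtain ⟨P, hP⟩ : ∃ P : Fin 2 → F[X], P = ![X - C 1, X - C (-1)] := ⟨_, rfl⟩
  haveI : ∀ j, Fact (Irreducible (P j)) := fun j => ⟨by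
    fin_cases j <;> rw [hP] <;> exact irreducible_X_sub_C _⟩
  have hco : Pairwise (Function.onFun IsCoprime P) := fun i j hij => by
    have hu : IsCoprime (X - C (1 : F)) (X - C (-1)) :=
      isCoprime_X_sub_C_of_isUnit_sub (isUnit_iff_ne_zero.2 (by rwa [sub_neg_eq_add, one_add_one_eq_two]))
    fin_cases i <;> fin_cases j <;> first
      | exact absurd rfl hij | (rw [hP]; exact hu) | (rw [hP]; exact hu.symm)
  have s := kdim_sum P hco (x := (t : Matrix ι ι F)) (by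
    rw [hP, Fin.prod_univ_two]
    show aeval _ ((X - C (1 : F)) * (X - C (-1))) = 0
    rw [show ((X - C (1 : F)) * (X - C (-1))) = X * X - 1 by rw [map_neg, map_one]; ring, map_sub, map_mul, aeval_X,
      map_one, val_sq_one ht, sub_self])
  rw [Fin.sum_univ_two, hP] at s
  rw [show (X + C (1 : F)) = X - C (-1) by rw [map_neg, sub_neg_eq_add]]
  exact s

/-- Elements of order three. -/
theorem three_pos [Nonempty ι] (h2 : (2 : F) ≠ 0) (h3 : (3 : F) ≠ 0) (hι : Fintype.card ι = 4) (hS : Setting R)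
    {e : Fin 5 → GL ι F} (hF : Frame R e) {z : GL ι F} (hz : z ∈ R) (hzc : ∀ y, z * y = y * z) (hz2 : z * z = -1)
    {σ : F →+* F} {h : (ι → F) → (ι → F) → F} (hh : Sesq σ h) (hp : ∀ a ∈ R, Pres h a)
    (hG : ∀ g, Pres h g → (g : Matrix ι ι F).det = 1 → g ∈ G)
    (hconj : ∀ x y g : GL ι F, x ∈ G → y ∈ G → x ^ 3 = 1 → g * y = x * g → ∃ k ∈ G, k⁻¹ * x * k = y)
    (hpar : ∀ x, x ∈ G → x ^ 3 = 1 → ∃ c, kdim (x : Matrix ι ι F) (X - C 1) + 2 * c = 4)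
    (hcl : ∀ x y, x ∈ G → y ∈ G → x ^ 3 = 1 → y ^ 3 = 1 →
      kdim (x : Matrix ι ι F) (X - C 1) = kdim (y : Matrix ι ι F) (X - C 1) → ∃ g : GL ι F, g * x = y * g) :
    ∀ x ∈ G, x ^ 3 = 1 → x ≠ 1 → ∃ k ∈ G, k⁻¹ * x * k ∈ Cfsg.Geo.subgroupNormalizer R := by
  obtain ⟨w, u, ⟨wN, wP, wD, w3, wq⟩, ⟨uN, uP, uD, u3, uq⟩, u1⟩ := models_three h2 h3 hS hF hz hzc hz2 hh hp
  have hw0 : kdim (w : Matrix ι ι F) (X - C 1) = 0 := by
    by_contra h
    obtain ⟨v, hv, hv'⟩ := exists_vec_of_kdim h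
    simp [sub_mulVec, sub_eq_zero] at hv'
    have h1 := congrArg (fun M => M *ᵥ v) wq
    simp only [add_mulVec, ← mulVec_mulVec, hv', one_mulVec, zero_mulVec] at h1
    have h2' : (3 : F) • v = 0 := by rw [← h1]; module
    exact hv ((smul_eq_zero.1 h2').resolve_left h3)
  intro x hx hx3 hx1
  have hne : ∀ y : GL ι F, y ≠ 1 → kdim (y : Matrix ι ι F) (X - C 1) ≠ 4 := fun y hy h =>
    hy (eq_one_of_kdim (h.trans hι.symm))
  have hwG := hG w wP wD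
  have huG := hG u uP uD
  obtain ⟨c, hc⟩ := hpar x hx hx3
  obtain ⟨d, hd⟩ := hpar u huG u3
  have hu0 : kdim (u : Matrix ι ι F) (X - C 1) ≠ 0 := fun h => by
    obtain ⟨g, hg⟩ := hcl u w huG hwG u3 w3 (by rw [h, hw0])
    have hg' : (g : Matrix ι ι F) * u = w * g := congrArg Units.val hg
    apply uq
    have : (g : Matrix ι ι F) * ((u : Matrix ι ι F) * u + u + 1) = 0 := by
      rw [mul_add, mul_add, mul_one, ← mul_assoc, hg', mul_assoc, hg', ← mul_assoc]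
      have h1 := congrArg (fun M => M * (g : Matrix ι ι F)) wq
      simpa only [add_mul, one_mul, zero_mul] using h1
    exact g.isUnit.mul_right_eq_zero.1 this
  have := hne x hx1
  have := hne u u1
  obtain ⟨y, yN, yG, y3, hy⟩ : ∃ y, y ∈ Cfsg.Geo.subgroupNormalizer R ∧ y ∈ G ∧ y ^ 3 = 1 ∧
      kdim (y : Matrix ι ι F) (X - C 1) = kdim (x : Matrix ι ι F) (X - C 1) := by
    rcases Nat.eq_zero_or_pos (kdim (x : Matrix ι ι F) (X - C 1)) with h | h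
    · exact ⟨w, wN, hwG, w3, by omega⟩
    · exact ⟨u, uN, huG, u3, by omega⟩
  obtain ⟨g, hg⟩ := hcl y x yG hx y3 hx3 hy
  obtain ⟨k, hk, hky⟩ := hconj x y g hx yG hx3 hg
  exact ⟨k, hk, hky ▸ yN⟩

/-- Elements of order five. -/
theorem five_pos [Nonempty ι] (h2 : (2 : F) ≠ 0) (hι : Fintype.card ι = 4) (hS : Setting R)
    {e : Fin 5 → GL ι F} (hF : Frame R e) {σ : F →+* F} {h : (ι → F) → (ι → F) → F} (hh : Sesq σ h)
    (hp : ∀ a ∈ R, Pres h a) (hG : ∀ g, Pres h g → (g : Matrix ι ι F).det = 1 → g ∈ G)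
    (hconj : ∀ x y g : GL ι F, x ∈ G → y ∈ G → x ^ 5 = 1 → g * y = x * g → ∃ k ∈ G, k⁻¹ * x * k = y)
    (hcl : ∀ x y, x ∈ G → y ∈ G → x ^ 5 = 1 → y ^ 5 = 1 → x ≠ 1 → y ≠ 1 → ∃ g : GL ι F, g * x = y * g) :
    ∀ x ∈ G, x ^ 5 = 1 → x ≠ 1 → ∃ k ∈ G, k⁻¹ * x * k ∈ Cfsg.Geo.subgroupNormalizer R := by
  obtain ⟨v, vN, vP, vD, v5, vns⟩ := exists_five h2 hι hS hF hh hp
  intro x hx hx5 hx1
  have hvG := hG v vP vD
  obtain ⟨g, hg⟩ := hcl v x hvG hx v5 hx5 (fun h => vns 1 (by rw [h, one_smul, Units.val_one])) hx1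
  obtain ⟨k, hk, hky⟩ := hconj x v g hx hvG hx5 hg
  exact ⟨k, hk, hky ▸ vN⟩

/-- Elements of order two modulo scalars with a square root of the scalar. -/
theorem two_pos [Nonempty ι] (h2 : (2 : F) ≠ 0) (hι : Fintype.card ι = 4) (hS : Setting R) {e : Fin 5 → GL ι F}
    (hF : Frame R e) {z : GL ι F} (hz : z ∈ R) (hzc : ∀ y, z * y = y * z) (hz2 : z * z = -1)
    {σ : F →+* F} {h : (ι → F) → (ι → F) → F} (hh : Sesq σ h) (hp : ∀ a ∈ R, Pres h a)
    (hG : ∀ g, Pres h g → (g : Matrix ι ι F).det = 1 → g ∈ G) (hdet : ∀ x ∈ G, (x : Matrix ι ι F).det = 1)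
    (hconj : ∀ x y g : GL ι F, x ∈ G → y ∈ G → x ^ 8 = 1 → g * y = x * g → ∃ k ∈ G, k⁻¹ * x * k = y)
    {u : GL ι F} {m : F} (hu : (u : Matrix ι ι F) = m • 1) (hup : Pres h u) {x : GL ι F} (hx : x ∈ G)
    (hxu : x * x = u * u) (hx8 : x ^ 8 = 1) (hns : ∀ c : F, (x : Matrix ι ι F) ≠ c • 1) :
    ∃ k ∈ G, k⁻¹ * x * k ∈ Cfsg.Geo.subgroupNormalizer R := by
  obtain ⟨t₀, s, ⟨tN, tP, t2, tk⟩, sN, sP, s2, sk⟩ := models_two h2 hι hS hF hz hzc hz2 hh hp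
  obtain ⟨t, ht⟩ : ∃ t, t = u⁻¹ * x := ⟨_, rfl⟩
  have hcu : ∀ y, u * y = y * u := fun y => scalar_comm hu y
  have hci : ∀ y, u⁻¹ * y = y * u⁻¹ := fun y => (Commute.inv_left (hcu y)).eq
  have htt : t * t = 1 := by
    rw [ht, mul_assoc, ← mul_assoc x u⁻¹ x, ← hci x, mul_assoc u⁻¹ x x, hxu, ← mul_assoc u⁻¹ u u, inv_mul_cancel,
      one_mul, inv_mul_cancel]
  have hsum := kdim_two_sum h2 htt
  have hsum' := kdim_two_sum h2 s2
  have hxt : x = u * t := by rw [ht, mul_inv_cancel_left]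
  have hc0 : kdim (t : Matrix ι ι F) (X + C 1) ≠ 0 := fun h0 => by
    rw [h0, add_zero] at hsum
    rw [eq_one_of_kdim hsum, mul_one] at hxt
    exact hns m (hxt ▸ hu)
  have hc4 : kdim (t : Matrix ι ι F) (X + C 1) ≠ 4 := fun h4 => by
    have h1 := zero_of_kdim (h4.trans hι.symm)
    rw [map_add, aeval_X, aeval_C, map_one, add_eq_zero_iff_eq_neg] at h1
    refine hns (-m) ?_
    rw [hxt, Units.val_mul, hu, h1, mul_neg, mul_one, neg_smul]
  obtain ⟨y₀, yN, yP, y2, hyk⟩ : ∃ y₀, y₀ ∈ Cfsg.Geo.subgroupNormalizer R ∧ Pres h y₀ ∧ y₀ * y₀ = 1 ∧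
      kdim (y₀ : Matrix ι ι F) (X + C 1) = kdim (t : Matrix ι ι F) (X + C 1) := by
    have : kdim (t : Matrix ι ι F) (X + C 1) = 1 ∨ kdim (t : Matrix ι ι F) (X + C 1) = 2 ∨
        kdim (t : Matrix ι ι F) (X + C 1) = 3 := by omega
    rcases this with h1 | h1 | h1
    · exact ⟨s, sN, sP, s2, sk.trans h1.symm⟩
    · exact ⟨t₀, tN, tP, t2, tk.trans h1.symm⟩
    · refine ⟨-1 * s, mul_mem (Subgroup.le_normalizer hS.neg) sN, pres_mul (hp _ hS.neg) sP, ?_, ?_⟩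
      · rw [neg_one_mul, neg_mul_neg, s2]
      · rw [Units.val_mul, Units.val_neg, Units.val_one, neg_one_mul, kdim_neg]
        omega
  obtain ⟨g, hg⟩ := conj_two h2 y2 htt hyk
  have hg' : g * (u * y₀) = x * g := by
    rw [← mul_assoc, ← hcu g, mul_assoc, hg, ← mul_assoc, ← hxt]
  have hyd : ((u * y₀ : GL ι F) : Matrix ι ι F).det = 1 := by
    have h1 := congrArg (fun a : GL ι F => (a : Matrix ι ι F).det) hg'
    rw [Units.val_mul g, Units.val_mul x, Matrix.det_mul, Matrix.det_mul, hdet x hx, one_mul] at h1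
    exact mul_left_cancel₀ ((Matrix.isUnit_iff_isUnit_det _).1 g.isUnit).ne_zero (h1.trans (mul_one _).symm)
  obtain ⟨k, hk, hky⟩ := hconj x _ g hx (hG _ (pres_mul hup yP) hyd) hx8 hg'
  exact ⟨k, hk, hky ▸ mul_mem (scalar_normal hu) yN⟩

/-- Rescaling an element of odd order modulo scalars. -/
theorem exists_scaled {x : GL ι F} {c : F} {r : ℕ} (hr : Odd r) (hx : ((x ^ r : GL ι F) : Matrix ι ι F) = c • 1)
    (hc : c ^ 4 = 1) : ∃ u : GL ι F, (u : Matrix ι ι F) = c ^ (3 * r) • 1 ∧ (u * x) ^ r = 1 := by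
  have hc0 : c ≠ 0 := fun h => by simp [h] at hc
  obtain ⟨u, hu⟩ := exists_scalar_gl (ι := ι) (pow_ne_zero (3 * r) hc0)
  refine ⟨u, hu, Units.ext ?_⟩
  rw [(show Commute u x from scalar_comm hu x).mul_pow, Units.val_mul, Units.val_pow_eq_pow_val, hu, hx, _root_.smul_pow,
    one_pow, smul_mul_smul_comm, one_mul, ← pow_mul, ← pow_succ, Units.val_one]
  obtain ⟨k, rfl⟩ := hr
  rw [show 3 * (2 * k + 1) * (2 * k + 1) + 1 = 4 * (3 * k * k + 3 * k + 1) by ring, pow_mul, hc, one_pow, one_smul]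

/-- The reduction to elements of order exactly `r`. -/
theorem odd_reduce {r : ℕ} (hr : Odd r)
    (hmain : ∀ y ∈ G, y ^ r = 1 → y ≠ 1 → ∃ k ∈ G, k⁻¹ * y * k ∈ Cfsg.Geo.subgroupNormalizer R)
    {x : GL ι F} (hx : x ∈ G) {c : F} (hxc : ((x ^ r : GL ι F) : Matrix ι ι F) = c • 1) (hc : c ^ 4 = 1)
    (hns : ∀ d : F, (x : Matrix ι ι F) ≠ d • 1)
    (hscal : ∀ (n : ℕ) (u : GL ι F), (u : Matrix ι ι F) = c ^ n • 1 → u ∈ G) :
    ∃ k ∈ G, k⁻¹ * x * k ∈ Cfsg.Geo.subgroupNormalizer R := by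
  obtain ⟨u, hu, hux⟩ := exists_scaled hr hxc hc
  have hc0 : c ≠ 0 := fun h => by simp [h] at hc
  obtain ⟨k, hk, hN⟩ := hmain (u * x) (mul_mem (hscal _ u hu) hx) hux (fun h => hns (c ^ (3 * r))⁻¹ (by
    have h1 : (c ^ (3 * r)) • (x : Matrix ι ι F) = 1 := by
      rw [← Units.val_one, ← h, Units.val_mul, hu, smul_mul_assoc, one_mul]
    rw [← h1, smul_smul, inv_mul_cancel₀ (pow_ne_zero _ hc0), one_smul]))
  refine ⟨k, hk, ?_⟩
  have h1 : k⁻¹ * x * k = u⁻¹ * (k⁻¹ * (u * x) * k) := by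
    rw [← mul_assoc k⁻¹ u x, ← scalar_comm hu k⁻¹, mul_assoc u k⁻¹ x, mul_assoc u, inv_mul_cancel_left]
  rw [h1]
  exact mul_mem (inv_mem (scalar_normal hu)) hN

end CfsgLib.Classical22.SympTypeFour
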