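/-
Arithmetic for the witnesses, and the data attached to a centre of order four.
-/
import Cfsg.Agent.Lib.Classical22.SympTypeFour.Positive
import Cfsg.Agent.Lib.Classical22.SympTypeFour.Negative

set_option autoImplicit false

namespace CfsgLib.Classical22.SympTypeFour

open Matrix

variable {F : Type*} [Field F]

theorem two_three_five {p : ℕ} [hp : Fact p.Prime] [CharP F p] :
    (p ≠ 2 → (2 : F) ≠ 0) ∧ (p ≠ 3 → (3 : F) ≠ 0) ∧ (p ≠ 5 → (5 : F) ≠ 0) := by
  have key : ∀ n : ℕ, n.Prime → p ≠ n → (n : F) ≠ 0 := fun n hn hne h =>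
    hne ((Nat.prime_dvd_prime_iff_eq hp.out hn).1 ((CharP.cast_eq_zero_iff F p n).1 h))
  exact ⟨fun h => by simpa using key 2 Nat.prime_two h, fun h => by simpa using key 3 Nat.prime_three h,
    fun h => by simpa using key 5 (by norm_num) h⟩

theorem zmod_five : ∀ a : ZMod 5, (a ≠ 0 → a ^ 4 = 1) ∧ (a * a = 1 → a = 1 ∨ a = 4) := by decide

theorem ord_five {p : ℕ} [hp : Fact p.Prime] (hp5 : p ≠ 5) :
    orderOf (p : ZMod 5) = 4 ↔ (p : ZMod 5) * p ≠ 1 := by
  haveI : Fact (Nat.Prime 5) := ⟨by norm_num⟩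
  have h0 : (p : ZMod 5) ≠ 0 := fun h => hp5
    ((Nat.prime_dvd_prime_iff_eq (by norm_num) hp.out).1 ((ZMod.natCast_eq_zero_iff _ _).1 h)).symm
  obtain ⟨a, ha⟩ : ∃ a : ZMod 5, a = (p : ZMod 5) := ⟨_, rfl⟩
  rw [← ha] at h0 ⊢
  constructor
  · intro h hcon
    have : orderOf a ∣ 2 := orderOf_dvd_of_pow_eq_one (by rw [pow_two, hcon])
    rw [h] at this
    norm_num at this
  · intro h
    exact orderOf_eq_prime_pow (p := 2) (n := 1) (by simpa [pow_two] using h)
      ((zmod_five a).1 h0)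

/-- A square root of five. -/
theorem exists_golden {p : ℕ} [hp : Fact p.Prime] [CharP F p] (hp2 : p ≠ 2) (hp5 : p ≠ 5)
    (hord : orderOf (p : ZMod 5) ≠ 4) : ∃ s : F, s * s + s = 1 ∧ ∀ σ : F →+* F, σ s = s := by
  haveI : Fact (Nat.Prime 5) := ⟨by norm_num⟩
  have hsq : IsSquare (p : ZMod 5) := by
    have h := (ord_five hp5).not.1 hord
    push Not at h
    obtain ⟨a, ha⟩ : ∃ a : ZMod 5, a = (p : ZMod 5) := ⟨_, rfl⟩
    rw [← ha] at h ⊢
    have : a = 1 ∨ a = 4 := (zmod_five a).2 h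
    rcases this with h1 | h1 <;> rw [h1]
    · exact ⟨1, rfl⟩
    · exact ⟨2, rfl⟩
  obtain ⟨r, hr⟩ := (ZMod.exists_sq_eq_prime_iff_of_mod_four_eq_one (p := 5) (q := p) (by norm_num) hp2).1 hsq
  obtain ⟨t, ht⟩ : ∃ t : ZMod p, t * t + t = 1 := by
    have h2 : (2 : ZMod p) ≠ 0 := fun h => hp2 (by
      have h' : ((2 : ℕ) : ZMod p) = 0 := by simpa using h
      exact (Nat.prime_dvd_prime_iff_eq hp.out Nat.prime_two).1 ((ZMod.natCast_eq_zero_iff _ _).1 h'))
    refine ⟨(r - 1) / 2, ?_⟩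
    have hr' : r * r = 5 := by simpa using hr.symm
    field_simp
    linear_combination hr'
  refine ⟨ZMod.castHom dvd_rfl F t, by rw [← map_mul, ← map_add, ht, map_one], fun σ => ?_⟩
  rw [← RingHom.comp_apply, RingHom.ext_zmod (σ.comp (ZMod.castHom dvd_rfl F)) (ZMod.castHom dvd_rfl F)]

variable {ι : Type} [Fintype ι] [DecidableEq ι]

theorem pow_five_of {M : Matrix ι ι F} {s : F} (hs : s * s + s = 1) (h : (M - 1) * (M * M - s • M + 1) = 0) :
    M ^ 5 = 1 := by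
  have e : (M - 1) * (M * M - s • M + 1) * (M * M + (1 + s) • M + 1) = M ^ 5 - 1 + (1 - s * s - s) • (M ^ 3 - M ^ 2) := by
    simp only [mul_add, add_mul, sub_mul, mul_sub, smul_mul_assoc, mul_smul_comm, smul_smul, mul_one, one_mul, pow_succ,
      pow_zero, ← mul_assoc]
    module
  rw [h, zero_mul, show (1 - s * s - s) = 0 by linear_combination -hs, zero_smul, add_zero] at e
  exact sub_eq_zero.1 e.symm

theorem golden_bad (h5 : (5 : F) ≠ 0) {s : F} (hs : s * s + s = 1) : ∀ f ∈ ({1, 2, 4, 8} : Finset ℕ),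
    16 % 5 = f % 5 → (s + 2) * (s + 2) ≠ f := by
  intro f hf hmod he
  fin_cases hf
  · push_cast at he
    exact h5 (by linear_combination (-9) * hs + (3 * s - 1) * (he - hs))
  all_goals simp at hmod

theorem omega_bad (h2 : (2 : F) ≠ 0) (h3 : (3 : F) ≠ 0) {ω : F} (hω : ω * ω + ω + 1 = 0) :
    ∀ f ∈ ({1, 2, 4, 8} : Finset ℕ), 16 % 3 = f % 3 → (3 * ω + 1) * (3 * (ω * ω) + 1) ≠ f := by
  intro f hf hmod he
  fin_cases hf
  · push_cast at he
    exact mul_ne_zero h2 h3 (by linear_combination he - (9 * ω - 6) * hω)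
  · simp at hmod
  · push_cast at he
    exact h3 (by linear_combination he - (9 * ω - 6) * hω)
  · simp at hmod

theorem diag_omega {ω : F} (hω3 : ω ^ 3 = 1) (hω1 : ω ≠ 1) :
    ∃ x : GL (Fin 4) F, (x : Matrix (Fin 4) (Fin 4) F) = diagonal ![ω, ω, ω, 1] ∧ x ^ 3 = 1 ∧
      (x : Matrix (Fin 4) (Fin 4) F).det = 1 ∧ (∀ c : F, (x : Matrix (Fin 4) (Fin 4) F) ≠ c • 1) ∧
      Matrix.trace (x : Matrix (Fin 4) (Fin 4) F) = 3 * ω + 1 ∧
      Matrix.trace ((x⁻¹ : GL (Fin 4) F) : Matrix (Fin 4) (Fin 4) F) = 3 * (ω * ω) + 1 := by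
  have h1 : ω * (ω * ω) = 1 := by linear_combination hω3
  obtain ⟨d, hd⟩ : ∃ d : Fin 4 → F, d = ![ω, ω, ω, 1] := ⟨_, rfl⟩
  obtain ⟨d', hd'⟩ : ∃ d' : Fin 4 → F, d' = ![ω * ω, ω * ω, ω * ω, 1] := ⟨_, rfl⟩
  have hdd : ∀ i, d i * d' i = 1 := fun i => by fin_cases i <;> simp [hd, hd', h1]
  obtain ⟨x, hx, hxi⟩ : ∃ x : GL (Fin 4) F, (x : Matrix (Fin 4) (Fin 4) F) = diagonal d ∧
      ((x⁻¹ : GL (Fin 4) F) : Matrix (Fin 4) (Fin 4) F) = diagonal d' :=
    ⟨⟨diagonal d, diagonal d', by rw [diagonal_mul_diagonal]; simp [hdd],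
      by rw [diagonal_mul_diagonal]; simp [mul_comm (d' _), hdd]⟩, rfl, rfl⟩
  refine ⟨x, hd ▸ hx, Units.ext ?_, ?_, fun c hc => ?_, ?_, ?_⟩
  · rw [Units.val_pow_eq_pow_val, hx, diagonal_pow, Units.val_one, ← diagonal_one]
    congr 1
    funext i
    fin_cases i <;> simp [hd, hω3]
  · rw [hx, det_diagonal, Fin.prod_univ_four]
    simp [hd]; linear_combination hω3
  · rw [hx] at hc
    have a := congrFun (congrFun hc 0) 0
    have b := congrFun (congrFun hc 3) 3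
    simp [hd] at a b
    exact hω1 (a.trans b.symm)
  · rw [hx, trace_diagonal, Fin.sum_univ_four]; simp [hd]; ring
  · rw [hxi, trace_diagonal, Fin.sum_univ_four]; simp [hd']; ring

/-- The block of order five. -/
theorem block_five {a b c : F} (hbc : a * a - b * c = 1) (hs : (2 * a) * (2 * a) + 2 * a = 1) (h5 : (5 : F) ≠ 0) :
    ∃ x : GL (Fin 4) F, (x : Matrix (Fin 4) (Fin 4) F) = !![a, b, 0, 0; c, a, 0, 0; 0, 0, 1, 0; 0, 0, 0, 1] ∧
      x ^ 5 = 1 ∧ (x : Matrix (Fin 4) (Fin 4) F).det = 1 ∧ (∀ t : F, (x : Matrix (Fin 4) (Fin 4) F) ≠ t • 1) ∧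
      Matrix.trace (x : Matrix (Fin 4) (Fin 4) F) = 2 * a + 2 ∧
      Matrix.trace ((x⁻¹ : GL (Fin 4) F) : Matrix (Fin 4) (Fin 4) F) = 2 * a + 2 := by
  obtain ⟨M, hM⟩ : ∃ M : Matrix (Fin 4) (Fin 4) F, M = !![a, b, 0, 0; c, a, 0, 0; 0, 0, 1, 0; 0, 0, 0, 1] := ⟨_, rfl⟩
  obtain ⟨N, hN⟩ : ∃ N : Matrix (Fin 4) (Fin 4) F, N = !![a, -b, 0, 0; -c, a, 0, 0; 0, 0, 1, 0; 0, 0, 0, 1] := ⟨_, rfl⟩
  have e1 : M * N = 1 := by
    rw [hM, hN]; ext i j
    fin_cases i <;> fin_cases j <;> simp [Matrix.mul_apply, Fin.sum_univ_four] <;>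
      first | linear_combination hbc | ring
  obtain ⟨x, hx, hxi⟩ : ∃ x : GL (Fin 4) F, (x : Matrix (Fin 4) (Fin 4) F) = M ∧
      ((x⁻¹ : GL (Fin 4) F) : Matrix (Fin 4) (Fin 4) F) = N := ⟨⟨M, N, e1, mul_eq_one_comm.1 e1⟩, rfl, rfl⟩
  refine ⟨x, hx.trans hM, Units.ext ?_, ?_, fun t ht => ?_, ?_, ?_⟩
  · rw [Units.val_pow_eq_pow_val, hx, Units.val_one]
    refine pow_five_of (s := 2 * a) hs ?_
    rw [hM]; ext i j
    fin_cases i <;> fin_cases j <;> simp [Matrix.mul_apply, Fin.sum_univ_four, Matrix.one_apply] <;>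
      first | linear_combination (1 - a) * hbc | linear_combination (-b) * hbc | linear_combination (-c) * hbc | ring
  · rw [hx, hM, det_succ_row_zero, Fin.sum_univ_four]
    simp [det_fin_three, Fin.succAbove]
    linear_combination hbc
  · rw [hx, hM] at ht
    have q := congrFun (congrFun ht 0) 0
    have q' := congrFun (congrFun ht 3) 3
    simp at q q'
    rw [q, ← q'] at hs
    exact h5 (by linear_combination hs)
  · rw [hx, hM, trace, Fin.sum_univ_four]; simp; ring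
  · rw [hxi, hN, trace, Fin.sum_univ_four]; simp; ring

/-- A centre of order four gives a square root of minus one and a frame. -/
theorem setup_four [Nonempty ι] [Fintype F] (h2 : (2 : F) ≠ 0) {R : Subgroup (GL ι F)}
    (hR : Cfsg.Geo.IsSymplecticTypeGroup 2 R)
    (hirr : Cfsg.Geo.ActsAbsolutelyIrreducibly (Cfsg.Geo.matrixSet R))
    (hcard : Nat.card R = 2 ^ 6) (hZ : Nat.card (Subgroup.center R) = 4) :
    Setting R ∧ ∃ (z : GL ι F) (e : Fin 5 → GL ι F), z ∈ R ∧ (∀ y, z * y = y * z) ∧ z * z = -1 ∧ Frame R e := by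
  have hS := setting_of_type h2 hR hirr (by rw [hcard, hZ]; norm_num) (by rw [hZ]; norm_num)
  refine ⟨hS, ?_⟩
  obtain ⟨w, hw, hw2⟩ : ∃ w : R, w ∈ Subgroup.center R ∧ (w : GL ι F) * w = -1 := by
    by_contra hcon
    push Not at hcon
    obtain ⟨C, hC⟩ : ∃ C, C = Subgroup.center R := ⟨_, rfl⟩
    rw [← hC] at hZ hcon
    obtain ⟨i⟩ := ‹Nonempty ι›
    have key : ∀ u : C, ((u : R) : GL ι F) = 1 ∨ ((u : R) : GL ι F) = -1 := fun u => by
      obtain ⟨t, -, ht⟩ := scalar_of_commute hirr ((center_val _ (u : R).2).1 (by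
        have := u.2
        simp only [hC] at this ⊢
        exact this))
      have h1 := congrArg Units.val ((hS.sq _ (u : R).2).resolve_right (hcon u u.2))
      rw [Units.val_mul, ht, smul_mul_smul_comm, one_mul, Units.val_one] at h1
      have h3 : t * t = 1 := by simpa using congrFun (congrFun h1 i) i
      rcases mul_self_eq_one_iff.1 h3 with rfl | rfl
      · exact Or.inl (Units.ext (by rw [ht, one_smul, Units.val_one]))
      · exact Or.inr (Units.ext (by rw [ht, neg_one_smul, Units.val_neg, Units.val_one]))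
    have h2' : Nat.card C ≤ Nat.card Bool := by
      classical
      refine Nat.card_le_card_of_injective (fun u : C => decide (((u : R) : GL ι F) = 1)) fun u v h => ?_
      simp only [decide_eq_decide] at h
      apply Subtype.ext
      apply Subtype.ext
      rcases key u with hu | hu
      · rw [hu, h.1 hu]
      · rcases key v with hv | hv
        · rw [hv, h.2 hv]
        · rw [hu, hv]
    simp [hZ] at h2'
  have hwc : ∀ y, (w : GL ι F) * y = y * w := by
    obtain ⟨t, -, ht⟩ := scalar_of_commute hirr ((center_val w.1 w.2).1 hw)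
    exact scalar_comm ht
  obtain ⟨a, b, c, d, hP, ha, hb, hc, hd⟩ := exists_frame_of_i h2 hS w.2 hwc hw2
  exact ⟨w, _, w.2, hwc, hw2, frame_of_pairs h2 hS hP ha hb hc hd⟩

end CfsgLib.Classical22.SympTypeFour
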